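import Cfsg.Agent.Lib.Coprime.Generation
import Cfsg.Agent.Lib.Coprime.FixedPointFreeOnModule
import Cfsg.Agent.Lib.Coprime.Hall
import Cfsg.Agent.Lib.Fusion.NormalRankTwo
import Cfsg.Agent.Lib.Solvable.Basic
import Cfsg.Agent.Lib.Solvable.Cores
import Cfsg.Prelude.Def_Transfer

/-!
# Fixed-point-free elements of prime order on abelian groups

Elementary tools for solvable groups in which no element order involves three given primes.
-/

set_option autoImplicit false
set_option linter.style.haveILetI false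

namespace CfsgLib.Solvable.ThreePrimeOrders

open Subgroup
open scoped commutatorElement

variable {G : Type*} [Group G] [Finite G]

/-- `x` fixes a non-trivial element of `V`. -/
def Fixes (V : Subgroup G) (x : G) : Prop := ∃ v ∈ V, v ≠ 1 ∧ Commute x v

theorem not_fixes_iff {V : Subgroup G} {x : G} :
    ¬ Fixes V x ↔ V ⊓ centralizer ({x} : Set G) = ⊥ := by
  simp only [Fixes, eq_bot_iff_forall, mem_inf, mem_centralizer_singleton_iff, not_exists, not_and]
  exact ⟨fun h v hv => not_not.1 fun h1 => h v hv.1 h1 (Commute.symm hv.2),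
    fun h v hv h1 h2 => h1 (h v ⟨hv, h2.symm⟩)⟩

theorem Fixes.mono {V W : Subgroup G} {x : G} (h : Fixes W x) (hle : W ≤ V) : Fixes V x :=
  ⟨h.choose, hle h.choose_spec.1, h.choose_spec.2⟩

omit [Finite G] in
theorem ne_one_of_orderOf {x : G} {p : ℕ} (hp : p.Prime) (hx : orderOf x = p) : x ≠ 1 := by
  rintro rfl
  exact hp.ne_one (hx.symm.trans orderOf_one)

theorem orderOf_of_isElementaryAbelian {A : Subgroup G} {p : ℕ} [Fact p.Prime]
    (hA : Cfsg.IsElementaryAbelian p A) {a : G} (ha : a ∈ A) (h1 : a ≠ 1) : orderOf a = p :=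
  orderOf_eq_prime (hA.2 a ha) h1

omit [Finite G] in
theorem zpowers_eq_of_mem {a x : G} {p : ℕ} (hp : p.Prime) (ha : orderOf a = p)
    (hx : x ∈ zpowers a) (hx1 : x ≠ 1) : zpowers x = zpowers a := by
  haveI : Finite (zpowers a) := Nat.finite_of_card_ne_zero (by rw [Nat.card_zpowers, ha]; exact hp.ne_zero)
  refine eq_of_le_of_card_ge (zpowers_le.2 hx) (le_of_eq ?_)
  rw [Nat.card_zpowers, Nat.card_zpowers, ha]
  haveI := Fact.mk hp
  refine (orderOf_eq_prime ?_ hx1).symm
  obtain ⟨i, rfl⟩ := mem_zpowers_iff.1 hx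
  rw [← zpow_natCast (a ^ i), ← zpow_mul, mul_comm, zpow_mul, zpow_natCast, ← ha, pow_orderOf_eq_one,
    one_zpow]

theorem isPGroup_of_elementary {A : Subgroup G} {p : ℕ} (hA : Cfsg.IsElementaryAbelian p A) :
    IsPGroup p A := fun a => ⟨1, Subtype.ext (by simpa using hA.2 a a.2)⟩

/-- Two commuting elements of order `p` generate an elementary abelian group. -/
theorem pair_elementary {x y : G} {p : ℕ} [Fact p.Prime] (hx : orderOf x = p) (hy : orderOf y = p)
    (hxy : Commute x y) (hny : y ∉ zpowers x) :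
    ∃ A : Subgroup G, Cfsg.IsElementaryAbelian p A ∧ ¬ IsCyclic A ∧ x ∈ A ∧ y ∈ A ∧
      A ≤ closure ({x, y} : Set G) := by
  set A := closure ({x, y} : Set G) with hA
  have hcomm : IsMulCommutative A := by
    refine isMulCommutative_closure ?_
    rintro a (rfl | rfl) b (rfl | rfl)
    · rfl
    · exact hxy.eq
    · exact hxy.eq.symm
    · rfl
  have hexp : ∀ a ∈ A, a ^ p = 1 := by
    intro a ha
    have hcl : ∀ b ∈ A, Commute a b := fun b hb =>
      congrArg Subtype.val (hcomm.1.1 ⟨a, ha⟩ ⟨b, hb⟩)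
    revert hcl
    refine closure_induction (p := fun a _ => (∀ b ∈ A, Commute a b) → a ^ p = 1) ?_ ?_ ?_ ?_ ha
    · rintro z (rfl | rfl) -
      · rw [← hx, pow_orderOf_eq_one]
      · rw [← hy, pow_orderOf_eq_one]
    · exact fun _ => one_pow p
    · intro u v hu hv iu iv _
      have hc : Commute u v := congrArg Subtype.val (hcomm.1.1 ⟨u, hu⟩ ⟨v, hv⟩)
      rw [hc.mul_pow, iu fun b hb => congrArg Subtype.val (hcomm.1.1 ⟨u, hu⟩ ⟨b, hb⟩),
        iv fun b hb => congrArg Subtype.val (hcomm.1.1 ⟨v, hv⟩ ⟨b, hb⟩), one_mul]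
    · intro u hu iu _
      rw [inv_pow, iu fun b hb => congrArg Subtype.val (hcomm.1.1 ⟨u, hu⟩ ⟨b, hb⟩), inv_one]
  have hxA : x ∈ A := subset_closure (Set.mem_insert _ _)
  have hyA : y ∈ A := subset_closure (Set.mem_insert_of_mem _ rfl)
  refine ⟨A, ⟨hcomm, hexp⟩, fun hc => ?_, hxA, hyA, le_rfl⟩
  obtain ⟨⟨g, hg⟩, hgen⟩ := hc.exists_generator
  have hxg : x ∈ zpowers g := by
    obtain ⟨i, hi⟩ := mem_zpowers_iff.1 (hgen ⟨x, hxA⟩)
    exact mem_zpowers_iff.2 ⟨i, by simpa using congrArg Subtype.val hi⟩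
  have hyg : y ∈ zpowers g := by
    obtain ⟨i, hi⟩ := mem_zpowers_iff.1 (hgen ⟨y, hyA⟩)
    exact mem_zpowers_iff.2 ⟨i, by simpa using congrArg Subtype.val hi⟩
  have hx1 := ne_one_of_orderOf (Fact.out : p.Prime) hx
  have hg1 : g ≠ 1 := fun e => hx1 (by rw [e, zpowers_one_eq_bot, mem_bot] at hxg; exact hxg)
  rw [← zpowers_eq_of_mem Fact.out (orderOf_eq_prime (hexp g hg) hg1) hxg hx1] at hyg
  exact hny hyg

/-- A non-cyclic abelian group acting coprimely has an element fixing a non-trivial element. -/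
theorem exists_fixes_of_noncyclic {A W : Subgroup G} {t : ℕ} [Fact t.Prime]
    (hA : Cfsg.IsElementaryAbelian t A) (hnc : ¬ IsCyclic A) (hAW : A ≤ normalizer (W : Set G))
    (hW : W ≠ ⊥) (ht : ¬ t ∣ Nat.card W) : ∃ a ∈ A, a ≠ 1 ∧ Fixes W a := by
  by_contra h
  push Not at h
  haveI := hA.1
  obtain ⟨n, hn⟩ := (isPGroup_of_elementary hA).exists_card_eq
  refine hW (le_bot_iff.1 ?_)
  rw [← CfsgLib.Coprime.iSup_centralizer_singleton hnc hAW
    (by rw [hn]; exact (((Fact.out : t.Prime).coprime_iff_not_dvd).2 ht).pow_left n)]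
  exact iSup₂_le fun a ha => (not_fixes_iff.1 (h a ha.1 ha.2)).le

/-- If all elements of `A` fixing something of `W` lie in `zpowers c`, then `c` centralises `W`. -/
theorem commute_of_unique_fixer {A W : Subgroup G} {t : ℕ} [Fact t.Prime]
    (hA : Cfsg.IsElementaryAbelian t A) (hnc : ¬ IsCyclic A) (hAW : A ≤ normalizer (W : Set G))
    (ht : ¬ t ∣ Nat.card W) {c : G} (hc : orderOf c = t)
    (h : ∀ a ∈ A, a ≠ 1 → Fixes W a → a ∈ zpowers c) : ∀ w ∈ W, Commute c w := by
  haveI := hA.1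
  obtain ⟨n, hn⟩ := (isPGroup_of_elementary hA).exists_card_eq
  intro w hw
  have hle : W ≤ centralizer ({c} : Set G) := by
    refine (CfsgLib.Coprime.iSup_centralizer_singleton hnc hAW
      (by rw [hn]; exact (((Fact.out : t.Prime).coprime_iff_not_dvd).2 ht).pow_left n)).ge.trans
      (iSup₂_le fun a ha => ?_)
    intro v hv
    rw [mem_centralizer_singleton_iff]
    by_cases hv1 : v = 1
    · rw [hv1, one_mul, mul_one]
    have hf : Fixes W a := ⟨v, hv.1, hv1, (mem_centralizer_singleton_iff.1 hv.2).symm⟩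
    have hac := zpowers_eq_of_mem Fact.out hc (h a ha.1 ha.2 hf) ha.2
    obtain ⟨i, hi⟩ := mem_zpowers_iff.1 (hac ▸ mem_zpowers c : c ∈ zpowers a)
    rw [← hi]
    exact (Commute.zpow_right (show Commute v a from mem_centralizer_singleton_iff.1 hv.2) i).eq
  exact (mem_centralizer_singleton_iff.1 (hle hw)).symm

/-- An involution without fixed elements on an abelian group inverts it. -/
theorem inv_of_fpf_involution {V : Subgroup G} (hV : IsMulCommutative V) {y : G}
    (hy : y ^ 2 = 1) (hyV : y ∈ normalizer (V : Set G)) (hf : ¬ Fixes V y) {v : G} (hv : v ∈ V) :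
    y * v * y⁻¹ = v⁻¹ := by
  have hyv : y * v * y⁻¹ ∈ V := (mem_normalizer_iff.1 hyV v).1 hv
  have hc : Commute v (y * v * y⁻¹) := congrArg Subtype.val (hV.1.1 ⟨v, hv⟩ ⟨_, hyv⟩)
  have hy' : y⁻¹ = y := inv_eq_of_mul_eq_one_right (by rw [← pow_two, hy])
  have h1 : y * (v * (y * v * y⁻¹)) * y⁻¹ = (y * v * y⁻¹) * v := by
    rw [hy']
    have hyy : y * y = 1 := by rw [← pow_two, hy]
    have : ∀ z : G, y * (y * z) = z := fun z => by rw [← mul_assoc, hyy, one_mul]
    simp [mul_assoc, this, hyy]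
  rw [← hc.eq, mul_inv_eq_iff_eq_mul] at h1
  by_contra hne
  exact hf ⟨_, mul_mem hv hyv, fun e => hne (eq_inv_of_mul_eq_one_right e), h1⟩

/-- An abelian group normalised by an element acting on it without fixed elements centralises every
module on which that element has no fixed elements. -/
theorem le_centralizer_of_frobenius {V E : Subgroup G} (hV : IsMulCommutative V)
    (hE : IsMulCommutative E) (hcop : (Nat.card E).Coprime (Nat.card V))
    (hEV : E ≤ normalizer (V : Set G)) {h : G} (hhV : h ∈ normalizer (V : Set G))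
    (hhE : h ∈ normalizer (E : Set G))
    (hfix : ∀ i, ¬ orderOf h ∣ i → ∀ e ∈ E, Commute (h ^ i) e → e = 1) (hnf : ¬ Fixes V h) :
    E ≤ centralizer (V : Set G) := by
  classical
  haveI := Fintype.ofFinite E
  haveI := hV
  set n := orderOf h
  have hn : 0 < n := orderOf_pos h
  let σ : G → G → G := fun g v => g * v * g⁻¹
  have hσ : ∀ g ∈ normalizer (V : Set G), ∀ v ∈ V, σ g v ∈ V := fun g hg v hv =>
    (mem_normalizer_iff.1 hg v).1 hv
  let S : normalizer (V : Set G) →* MulAut V := MonoidHom.mk'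
    (fun g => { toFun := fun v => ⟨σ g v, hσ g g.2 v v.2⟩
                invFun := fun v => ⟨σ (g : G)⁻¹ v, hσ _ (inv_mem g.2) v v.2⟩
                left_inv := fun v => Subtype.ext (by simp [σ, mul_assoc])
                right_inv := fun v => Subtype.ext (by simp [σ, mul_assoc])
                map_mul' := fun a b => Subtype.ext (by simp [σ, mul_assoc]) })
    fun a b => MulEquiv.ext fun v => Subtype.ext (by simp [σ, mul_assoc])
  set η : normalizer (V : Set G) := ⟨h, hhV⟩
  let ι : E → normalizer (V : Set G) := fun e => ⟨e, hEV e.2⟩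
  have hcomm : ∀ a b : V, a * b = b * a := fun a b => hV.1.1 a b
  letI : CommGroup V := { (inferInstance : Group V) with mul_comm := hcomm }
  -- the norm of `h` is trivial
  have hN : ∀ v : V, ∏ i ∈ Finset.range n, S (η ^ i) v = 1 := by
    intro v
    by_contra hne
    set N := ∏ i ∈ Finset.range n, S (η ^ i) v with hNdef
    have hfixN : S η N = N := by
      have hshift : ∏ i ∈ Finset.range n, S (η ^ (i + 1)) v = N := by
        have h1 := Finset.prod_range_succ (fun i => S (η ^ i) v) n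
        have h2 := Finset.prod_range_succ' (fun i => S (η ^ i) v) n
        have hηn : η ^ n = 1 := Subtype.ext (by rw [SubgroupClass.coe_pow]; exact pow_orderOf_eq_one h)
        rw [h2] at h1
        simp only [hηn, pow_zero, map_one, MulAut.one_apply] at h1
        exact mul_right_cancel h1
      rw [map_prod]
      simp only [← MulAut.mul_apply, ← map_mul, ← pow_succ']
      exact hshift
    have h3 : h * (N : G) * h⁻¹ = N := congrArg Subtype.val hfixN
    rw [mul_inv_eq_iff_eq_mul] at h3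
    exact hnf ⟨N, N.2, fun e => hne (Subtype.ext e), h3⟩
  let T : V → V := fun w => ∏ e : E, S (ι e) w
  have hT : ∀ (d : E) (w : V), S (ι d) (T w) = T w := by
    intro d w
    show S (ι d) (∏ e : E, S (ι e) w) = _
    rw [map_prod]
    refine Fintype.prod_equiv (Equiv.mulLeft d) _ _ fun e => ?_
    rw [← MulAut.mul_apply, ← map_mul]
    rfl
  have hbij : ∀ i, ¬ n ∣ i → ∀ v : V,
      ∏ e : E, S (ι e * η ^ i * (ι e)⁻¹) v = T (S (η ^ i) v) := by
    intro i hi v
    have hmem : ∀ e : E, h ^ i * (e : G) * (h ^ i)⁻¹ ∈ E := fun e =>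
      (mem_normalizer_iff.1 (pow_mem hhE i) _).1 e.2
    let f : E → E := fun e => e * ⟨_, hmem e⁻¹⟩
    have hf : Function.Injective f := by
      intro a b hab
      have h1 : (a : G) * (h ^ i * (a : G)⁻¹ * (h ^ i)⁻¹) = b * (h ^ i * (b : G)⁻¹ * (h ^ i)⁻¹) := by
        simpa [f] using congrArg Subtype.val hab
      refine inv_mul_eq_one.1 ?_ |>.symm
      apply Subtype.ext
      refine hfix i hi _ (SetLike.coe_mem _) ?_
      show h ^ i * ((b⁻¹ * a : E) : G) = ((b⁻¹ * a : E) : G) * h ^ i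
      push_cast
      calc h ^ i * ((b : G)⁻¹ * a) = (b : G)⁻¹ * ((b : G) * (h ^ i * (b : G)⁻¹ * (h ^ i)⁻¹)) * h ^ i * a := by group
        _ = (b : G)⁻¹ * a * h ^ i := by rw [← h1]; group
    refine Fintype.prod_equiv (Equiv.ofBijective f
      ⟨hf, Finite.injective_iff_surjective.1 hf⟩) _ _ fun e => ?_
    rw [← MulAut.mul_apply, ← map_mul]
    congr 2
    apply Subtype.ext
    simp [f, ι, η, mul_assoc]
  have key : ∀ (d : E) (v : V), S (ι d) (v ^ Nat.card E) = v ^ Nat.card E := by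
    intro d v
    have h1 : ∀ e : E, ∏ i ∈ Finset.range n, S (ι e * η ^ i * (ι e)⁻¹) v = 1 := fun e => by
      simp only [map_mul, MulAut.mul_apply]
      rw [← map_prod, hN, map_one]
    have h2 : ∏ i ∈ Finset.range n, ∏ e : E, S (ι e * η ^ i * (ι e)⁻¹) v = 1 := by
      rw [Finset.prod_comm]
      exact Finset.prod_eq_one fun e _ => h1 e
    obtain ⟨m, hm⟩ : ∃ m, n = m + 1 := ⟨n - 1, by omega⟩
    rw [hm, Finset.prod_range_succ'] at h2
    simp only [pow_zero, mul_one, mul_inv_cancel, map_one, MulAut.one_apply, Finset.prod_const,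
      Finset.card_univ, ← Nat.card_eq_fintype_card] at h2
    rw [Finset.prod_congr rfl fun i hi => hbij (i + 1) (Nat.not_dvd_of_pos_of_lt (by omega)
      (by rw [Finset.mem_range] at hi; omega)) v] at h2
    rw [eq_inv_of_mul_eq_one_right h2, map_inv, map_prod]
    simp only [hT]
  intro d hd
  rw [mem_centralizer_iff]
  intro v hv
  have hc := key ⟨d, hd⟩ ⟨v, hv⟩
  rw [map_pow] at hc
  have hu := (powCoprime hcop.symm).injective (a₁ := S (ι ⟨d, hd⟩) ⟨v, hv⟩) (a₂ := ⟨v, hv⟩) hc
  have h3 : d * v * d⁻¹ = v := congrArg Subtype.val hu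
  rw [mul_inv_eq_iff_eq_mul] at h3
  exact h3.symm

omit [Finite G] in
theorem conj_pow_of_commutator {g y z : G} (h : y * g * y⁻¹ = g * z) (hz : Commute z y) (i : ℕ) :
    y ^ i * g * (y ^ i)⁻¹ = g * z ^ i := by
  induction i with
  | zero => simp
  | succ i ih =>
    have hzy : y * z ^ i * y⁻¹ = z ^ i := by
      rw [((hz.pow_left i).symm).eq, mul_inv_cancel_right]
    calc y ^ (i + 1) * g * (y ^ (i + 1))⁻¹ = y * (y ^ i * g * (y ^ i)⁻¹) * y⁻¹ := by
          rw [pow_succ']; group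
      _ = (y * g * y⁻¹) * (y * z ^ i * y⁻¹) := by rw [ih]; group
      _ = g * z ^ (i + 1) := by rw [h, hzy, pow_succ']; group

/-- Coprime stability. -/
theorem commute_of_commutator_fixed {g y z : G} {t : ℕ} (hy : y ^ t = 1)
    (hz : (orderOf z).Coprime t) (h : y * g * y⁻¹ = g * z) (hc : Commute z y) : Commute y g := by
  have h1 := conj_pow_of_commutator h hc t
  rw [hy, one_mul, inv_one, mul_one] at h1
  have h2 : z ^ t = 1 := left_eq_mul.1 h1
  have hz1 : z = 1 := by
    have : z ^ (orderOf z).gcd t = 1 := pow_gcd_eq_one.2 ⟨pow_orderOf_eq_one z, h2⟩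
    rwa [hz, pow_one] at this
  rw [hz1, mul_one, mul_inv_eq_iff_eq_mul] at h
  exact h

/-- An element of prime order without fixed elements on `V` acts trivially, modulo the centraliser
of `V`, on abelian groups of coprime order that it normalises. -/
theorem comm_mem_of_abelian {V E : Subgroup G} (hV : IsMulCommutative V) (hE : IsMulCommutative E)
    (hcop : (Nat.card E).Coprime (Nat.card V)) (hEV : E ≤ normalizer (V : Set G)) {y : G} {t : ℕ}
    [Fact t.Prime] (hy : orderOf y = t) (htE : ¬ t ∣ Nat.card E)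
    (hyV : y ∈ normalizer (V : Set G)) (hyE : y ∈ normalizer (E : Set G)) (hf : ¬ Fixes V y)
    {g : G} (hg : g ∈ E) : g⁻¹ * (y * g * y⁻¹) ∈ centralizer (V : Set G) := by
  haveI := hE
  have hmem : ∀ e : G, e ∈ E → y * e * y⁻¹ ∈ E := fun e he => (mem_normalizer_iff.1 hyE e).1 he
  let f : E →* E := MonoidHom.mk' (fun e => e⁻¹ * ⟨_, hmem e e.2⟩) fun a b => by
    have e1 : (⟨_, hmem (a * b : E) (a * b : E).2⟩ : E) = ⟨_, hmem a a.2⟩ * ⟨_, hmem b b.2⟩ :=
      Subtype.ext (by simp [mul_assoc])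
    simp only [e1, mul_inv_rev]
    rw [mul_assoc b⁻¹, ← mul_assoc a⁻¹ ⟨_, hmem a a.2⟩, ← mul_assoc b⁻¹,
      hE.1.1 b⁻¹ (a⁻¹ * ⟨_, hmem a a.2⟩)]
    simp [mul_assoc]
  set E1 := f.range.map E.subtype with hE1
  have hE1E : E1 ≤ E := map_subtype_le _
  have hyE1 : y ∈ normalizer (E1 : Set G) := by
    refine mem_normalizer_fintype (S := (E1 : Set G)) ?_
    rintro _ ⟨_, ⟨e, rfl⟩, rfl⟩
    exact ⟨_, ⟨⟨_, hmem e e.2⟩, rfl⟩, by simp [f, mul_assoc]⟩
  have hfree : ∀ e ∈ E1, Commute y e → e = 1 := by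
    rintro _ ⟨_, ⟨e, rfl⟩, rfl⟩ hce
    have h1 : y * (e : G) * y⁻¹ = e * (((f e : E)) : G) := by simp [f]
    have ht : (orderOf ((f e : E) : G)).Coprime t := by
      rw [Nat.coprime_comm, (Fact.out : t.Prime).coprime_iff_not_dvd]
      exact fun hd => htE (hd.trans (Subgroup.orderOf_dvd_natCard E (f e).2))
    have h2 := commute_of_commutator_fixed (by rw [← hy, pow_orderOf_eq_one]) ht h1 hce.symm
    show ((f e : E) : G) = 1
    simp [f, h2.eq]
  have hcop1 : (Nat.card E1).Coprime (Nat.card V) := hcop.coprime_dvd_left (card_dvd_of_le hE1E)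
  haveI : IsMulCommutative E1 := ⟨⟨fun a b => Subtype.ext
    (congrArg Subtype.val (hE.1.1 ⟨a, hE1E a.2⟩ ⟨b, hE1E b.2⟩) :)⟩⟩
  refine le_centralizer_of_frobenius hV inferInstance hcop1 (hE1E.trans hEV) hyV hyE1 ?_ hf
    ⟨_, ⟨⟨g, hg⟩, rfl⟩, by simp [f]⟩
  intro i hi e he hce
  refine hfree e he ?_
  rw [hy] at hi
  obtain ⟨m, hm⟩ := exists_pow_eq_self_of_coprime (x := y)
    (by rw [hy]; exact ((Fact.out : t.Prime).coprime_iff_not_dvd.2 hi).symm : i.Coprime (orderOf y))
  rw [← hm]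
  exact hce.pow_left m

/-- The same for groups of odd prime power order. -/
theorem comm_mem_of_odd {p r t : ℕ} [Fact p.Prime] [Fact r.Prime] [Fact t.Prime] {V Q : Subgroup G}
    (hV : Cfsg.IsElementaryAbelian p V) (hQ : IsPGroup r Q) (hr : r ≠ 2) (hpr : p ≠ r) (hpt : p ≠ t)
    (hrt : r ≠ t) {y : G} (hy : orderOf y = t) (hQV : Q ≤ normalizer (V : Set G))
    (hyV : y ∈ normalizer (V : Set G)) (hyQ : y ∈ normalizer (Q : Set G)) (hf : ¬ Fixes V y)
    {g : G} (hg : g ∈ Q) : g⁻¹ * (y * g * y⁻¹) ∈ centralizer (V : Set G) := by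
  by_cases ht : t = 2
  · subst ht
    haveI := hV.1
    have hinv : ∀ v ∈ V, y * v * y⁻¹ = v⁻¹ := fun v hv =>
      inv_of_fpf_involution hV.1 (by rw [← hy, pow_orderOf_eq_one]) hyV hf hv
    rw [mem_centralizer_iff]
    intro v hv
    set u := g⁻¹ * (y * g * y⁻¹) with hu
    have h1 : u * v * u⁻¹ = v := by
      have hgv : g * v⁻¹ * g⁻¹ ∈ V := (mem_normalizer_iff.1 (hQV hg) _).1 (inv_mem hv)
      have hyv : y⁻¹ * v * y = v⁻¹ := by
        have hy' : y⁻¹ = y := inv_eq_of_mul_eq_one_right (by rw [← pow_two, ← hy, pow_orderOf_eq_one])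
        have h2 := hinv v hv
        rw [hy'] at h2 ⊢
        exact h2
      calc u * v * u⁻¹ = g⁻¹ * (y * (g * (y⁻¹ * v * y) * g⁻¹) * y⁻¹) * g := by rw [hu]; group
        _ = g⁻¹ * (g * v⁻¹ * g⁻¹)⁻¹ * g := by rw [hyv, hinv _ hgv]
        _ = v := by group
    rw [mul_inv_eq_iff_eq_mul] at h1
    exact h1.symm
  refine CfsgLib.Coprime.FixedPointFreeOnModule.main _ G r t p V Q y rfl hr ht hpr hpt hrt hV hQ hQV
    hyV hyQ (by rw [← hy, pow_orderOf_eq_one]) (not_fixes_iff.1 hf) ?_
  have : g⁻¹ * (y * g * y⁻¹) = ⁅g⁻¹, y⁆ := by rw [commutatorElement_def]; group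
  rw [this]
  exact commutator_mem_commutator (inv_mem hg) (mem_zpowers y)

/-- A group of prime power order without commuting independent elements of order `r` has only one
subgroup of order `r`. -/
theorem mem_zpowers_of_rankOne {r : ℕ} [Fact r.Prime] {R : Subgroup G} (hR : IsPGroup r R)
    (h : ∀ x ∈ R, ∀ y ∈ R, orderOf x = r → orderOf y = r → Commute x y → y ∈ zpowers x)
    {x y : G} (hx : x ∈ R) (hy : y ∈ R) (hxo : orderOf x = r) (hyo : orderOf y = r) :
    y ∈ zpowers x := by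
  have hR1 : Nontrivial R := ⟨⟨x, hx⟩, 1, fun e =>
    ne_one_of_orderOf Fact.out hxo (congrArg Subtype.val e)⟩
  haveI := hR.center_nontrivial
  obtain ⟨m, hm⟩ := (hR.to_subgroup (center R)).exists_card_eq
  have hm0 : m ≠ 0 := fun e => by
    rw [e, pow_zero] at hm
    exact (Finite.one_lt_card (α := center R)).ne' hm
  obtain ⟨z, hz⟩ := exists_prime_orderOf_dvd_card' (G := center R) r (hm ▸ dvd_pow_self r hm0)
  set w : G := ((z : R) : G) with hw
  have hwo : orderOf w = r := by rw [hw, orderOf_coe, orderOf_coe, hz]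
  have hwc : ∀ g ∈ R, Commute w g := fun g hg =>
    congrArg Subtype.val ((mem_center_iff.1 z.2 ⟨g, hg⟩).symm)
  have hxw : zpowers x = zpowers w := zpowers_eq_of_mem Fact.out hwo
    (h w (z : R).2 x hx hwo hxo (hwc x hx)) (ne_one_of_orderOf Fact.out hxo)
  rw [hxw]
  exact h w (z : R).2 y hy hwo hyo (hwc y hy)

/-- For odd primes such a group is cyclic. -/
theorem isCyclic_of_rankOne {r : ℕ} [Fact r.Prime] {R : Subgroup G} (hR : IsPGroup r R) (hr : r ≠ 2)
    (h : ∀ x ∈ R, ∀ y ∈ R, orderOf x = r → orderOf y = r → Commute x y → y ∈ zpowers x) :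
    IsCyclic R := by
  by_contra hnc
  haveI : (⊤ : Subgroup R).Normal := inferInstance
  obtain ⟨E, -, -, hE, hcard⟩ := CfsgLib.Fusion.NormalRankTwo.exists_normal_rankTwo hR hr
    (S := ⊤) (fun hc => hnc (Subgroup.topEquiv.isCyclic.1 hc))
  have hr1 := (Fact.out : r.Prime).one_lt
  haveI : Nontrivial E := Finite.one_lt_card_iff_nontrivial.1 (by rw [hcard]; nlinarith)
  obtain ⟨x, hx⟩ := exists_ne (1 : E)
  have hxo : orderOf ((x : R) : G) = r := by
    rw [orderOf_coe]
    exact orderOf_eq_prime (hE.2 x x.2) fun e => hx (Subtype.ext e)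
  obtain ⟨y, hy, hyx⟩ : ∃ y ∈ E, y ∉ zpowers (x : R) := by
    by_contra hall
    push Not at hall
    have := Nat.card_le_card_of_injective _ (inclusion_injective (show E ≤ zpowers (x : R) from hall))
    rw [hcard, Nat.card_zpowers, ← orderOf_coe, hxo] at this
    nlinarith
  refine hyx ?_
  haveI := hE.1
  have h1 := h _ (x : R).2 _ y.2 hxo (by
    rw [orderOf_coe]
    exact orderOf_eq_prime (hE.2 y hy) fun e => hyx (e ▸ one_mem _))
    (congrArg (fun z : R => (z : G)) (congrArg Subtype.val (hE.1.1.1 x ⟨y, hy⟩)))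
  obtain ⟨i, hi⟩ := mem_zpowers_iff.1 h1
  exact mem_zpowers_iff.2 ⟨i, Subtype.ext (by simpa using hi)⟩

/-- An element of prime order normalising a cyclic group of coprime prime power order and fixing a
non-trivial element of it centralises it. -/
theorem commute_of_cyclic {r t : ℕ} [Fact r.Prime] [Fact t.Prime] (hrt : r ≠ t) {D : Subgroup G}
    (hD : IsPGroup r D) (hc : IsCyclic D) {y : G} (hy : orderOf y = t)
    (hyD : y ∈ normalizer (D : Set G)) {a : G} (ha : a ∈ D) (hao : orderOf a = r)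
    (hya : Commute y a) : ∀ d ∈ D, Commute y d := by
  intro d hd
  haveI := hc
  letI := IsCyclic.commGroup (α := D)
  have hmem : ∀ e : G, e ∈ D → y * e * y⁻¹ ∈ D := fun e he => (mem_normalizer_iff.1 hyD e).1 he
  let f : D →* D := MonoidHom.mk' (fun e => e⁻¹ * ⟨_, hmem e e.2⟩) fun u v => by
    have e1 : (⟨_, hmem (u * v : D) (u * v : D).2⟩ : D) = ⟨_, hmem u u.2⟩ * ⟨_, hmem v v.2⟩ :=
      Subtype.ext (by simp [mul_assoc])
    simp only [e1, mul_inv_rev]
    ac_rfl
  obtain ⟨n, hn⟩ := hD.exists_card_eq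
  have hcop : ∀ z : D, (orderOf (z : G)).Coprime t := fun z =>
    Nat.Coprime.coprime_dvd_left (Subgroup.orderOf_dvd_natCard D z.2)
      (hn ▸ ((Nat.coprime_primes Fact.out Fact.out).2 hrt).pow_left n)
  have hyt : y ^ t = 1 := by rw [← hy, pow_orderOf_eq_one]
  by_cases hf : f.range = ⊥
  · have h1 : f ⟨d, hd⟩ = 1 := (eq_bot_iff_forall _).1 hf _ ⟨_, rfl⟩
    have h2 : d⁻¹ * (y * d * y⁻¹) = 1 := congrArg Subtype.val h1
    rw [inv_mul_eq_one, eq_comm, mul_inv_eq_iff_eq_mul] at h2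
    exact h2
  exfalso
  -- the unique subgroup of order `r` lies in the range
  obtain ⟨m, hm⟩ := (hD.to_subgroup f.range).exists_card_eq
  have hm0 : m ≠ 0 := fun e => hf (card_eq_one.1 (by rw [hm, e, pow_zero]))
  obtain ⟨w, hw⟩ := exists_prime_orderOf_dvd_card' (G := f.range) r (hm ▸ dvd_pow_self r hm0)
  have hwo : orderOf ((w : D) : G) = r := by rw [orderOf_coe, orderOf_coe, hw]
  have hmemw : ((w : D) : G) ∈ zpowers a := by
    by_contra hna
    obtain ⟨A, -, hAnc, -, -, hAle⟩ := pair_elementary hao hwo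
      (congrArg Subtype.val (mul_comm (⟨a, ha⟩ : D) (w : D))) hna
    have hAD : A ≤ D := hAle.trans ((closure_le _).2 (by
      rintro z (rfl | rfl)
      · exact ha
      · exact (w : D).2))
    exact hAnc (isCyclic_of_injective (inclusion hAD) (inclusion_injective hAD))
  obtain ⟨i, hi⟩ := mem_zpowers_iff.1 hmemw
  have hwy : Commute y ((w : D) : G) := by
    rw [← hi]
    exact hya.zpow_right i
  obtain ⟨e, he⟩ := w.2
  have h1 : y * (e : G) * y⁻¹ = e * ((w : D) : G) := by rw [← he]; simp [f]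
  have h2 := commute_of_commutator_fixed hyt (hcop _) h1 hwy.symm
  rw [h2.eq, mul_inv_cancel_right, left_eq_mul] at h1
  exact ne_one_of_orderOf Fact.out hwo h1

end CfsgLib.Solvable.ThreePrimeOrders
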