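import Cfsg.Agent.Lib.Solvable.ThreePrimeOrders.Noncyclic

/-!
# The faithful configuration does not exist
-/

set_option autoImplicit false
set_option linter.style.haveILetI false

namespace CfsgLib.Solvable.ThreePrimeOrders.Setting

open Subgroup
open scoped commutatorElement

variable {G : Type*} [Group G] [Finite G] {p : ℕ} {V K : Subgroup G} {S : Finset ℕ}
variable (h : Setting p V K S)
include h

theorem mem_supp {t : ℕ} (ht : t.Prime) (hne : core t K ≠ ⊥) : t ∈ S :=
  haveI := Fact.mk ht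
  h.supp t ht ((dvd_card_of_core_ne_bot hne).trans (card_dvd_of_le (core_le t K)))

/-- A non-trivial core has a normal subgroup of order `t`, fixed-point-free, and `t` is odd. -/
theorem exists_line {t : ℕ} (ht : t.Prime) (hne : core t K ≠ ⊥) :
    t ≠ 2 ∧ ∃ a ∈ core t K, orderOf a = t ∧ (∀ g ∈ core t K, Commute a g) ∧ ¬ Fixes V a ∧
      K ≤ normalizer (zpowers a : Set G) ∧
      ∀ x ∈ core t K, x ^ t = 1 → (∀ g ∈ core t K, Commute x g) → x ∈ zpowers a := by
  haveI := Fact.mk ht
  haveI := h.solv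
  have htS := h.mem_supp ht hne
  let E : Subgroup G :=
    { carrier := {x | x ∈ core t K ∧ x ^ t = 1 ∧ ∀ g ∈ core t K, Commute x g}
      one_mem' := ⟨one_mem _, one_pow t, fun g _ => Commute.one_left g⟩
      mul_mem' := fun {x y} hx hy => ⟨mul_mem hx.1 hy.1,
        by rw [(hx.2.2 y hy.1).mul_pow, hx.2.1, hy.2.1, one_mul],
        fun g hg => (hx.2.2 g hg).mul_left (hy.2.2 g hg)⟩
      inv_mem' := fun {x} hx => ⟨inv_mem hx.1, by rw [inv_pow, hx.2.1, inv_one],
        fun g hg => (hx.2.2 g hg).inv_left⟩ }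
  have hEcomm : IsMulCommutative E := ⟨⟨fun a b => Subtype.ext (a.2.2.2 b b.2.1).eq⟩⟩
  have hE : Cfsg.IsElementaryAbelian t E := ⟨hEcomm, fun a ha => ha.2.1⟩
  have hEK : E ≤ K := fun x hx => core_le t K hx.1
  have hEn : K ≤ normalizer (E : Set G) := fun g hg => mem_normalizer_fintype fun x hx =>
    ⟨conj_mem_core hg hx.1, by rw [conj_pow, hx.2.1, mul_one, mul_inv_cancel],
      h.conj_comm_mem (le_normalizer_core t K hg) hx.2.2⟩
  have hcyc := h.isCyclic_of_normal htS hEK hE hEn
  haveI : Nontrivial (core t K) := nontrivial_iff_ne_bot _ |>.2 hne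
  haveI := (isPGroup_core t K).center_nontrivial
  obtain ⟨m, hm⟩ := ((isPGroup_core t K).to_subgroup (center (core t K))).exists_card_eq
  have hm0 : m ≠ 0 := fun e => by
    rw [e, pow_zero] at hm
    exact (Finite.one_lt_card (α := center (core t K))).ne' hm
  obtain ⟨z, hz⟩ := exists_prime_orderOf_dvd_card' (G := center (core t K)) t
    (hm ▸ dvd_pow_self t hm0)
  set a : G := ((z : core t K) : G) with ha
  have hac : a ∈ core t K := (z : core t K).2
  have hao : orderOf a = t := by rw [ha, orderOf_coe, orderOf_coe, hz]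
  have haz : ∀ g ∈ core t K, Commute a g := fun g hg =>
    congrArg Subtype.val ((mem_center_iff.1 z.2 ⟨g, hg⟩).symm)
  have haE : a ∈ E := ⟨hac, by rw [← hao, pow_orderOf_eq_one], haz⟩
  have huniq : ∀ x ∈ E, x ∈ zpowers a := by
    intro x hx
    by_contra hxa
    have hxo := orderOf_of_isElementaryAbelian hE hx fun e => hxa (e ▸ one_mem _)
    obtain ⟨A, -, hAnc, -, -, hAle⟩ := pair_elementary hao hxo (haz x hx.1) hxa
    have hAE : A ≤ E := hAle.trans ((closure_le _).2 (by rintro y (rfl | rfl) <;> assumption))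
    exact hAnc (isCyclic_of_injective (inclusion hAE) (inclusion_injective hAE))
  have hnorm : K ≤ normalizer (zpowers a : Set G) := fun g hg => mem_normalizer_zpowers
    (huniq _ ((mem_normalizer_iff.1 (hEn hg) a).1 haE))
  have haK := core_le t K hac
  have haS : orderOf a ∈ S := hao.symm ▸ htS
  have ht2 : t ≠ 2 := by
    intro e
    refine h.not_central haK haS fun g hg => ?_
    have hmem := (mem_normalizer_iff.1 (hnorm hg) a).1 (mem_zpowers a)
    obtain ⟨k, hk⟩ := (mem_powers_iff_mem_zpowers (x := a) (y := g * a * g⁻¹)).2 hmem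
    replace hk : a ^ k = g * a * g⁻¹ := hk
    have h1 : orderOf (g * a * g⁻¹) = 2 := by rw [← MulAut.conj_apply, MulEquiv.orderOf_eq, hao, e]
    rcases Nat.mod_two_eq_zero_or_one k with hk2 | hk2
    · rw [← hk, ← pow_mod_orderOf, hao, e, hk2, pow_zero, orderOf_one] at h1
      exact absurd h1 (by norm_num)
    · rw [← pow_mod_orderOf, hao, e, hk2, pow_one, eq_comm, mul_inv_eq_iff_eq_mul] at hk
      exact hk.symm
  have hfpf : ¬ Fixes V a := by
    intro hf
    obtain ⟨r, hr, s, hs, htr, hrs, hts⟩ := h.exists_others htS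
    have hex : ∀ u ∈ S, u ≠ t → ∃ y ∈ K, orderOf y = u ∧ Commute a y := by
      intro u hu hut
      obtain ⟨c, hc, -, -, hco, -, -⟩ := h.edge u hu t htS hut
      haveI := Fact.mk (h.prime u hu).1
      obtain ⟨d, hd, hdo, hcd, hdn⟩ := h.big c hc (hco.symm ▸ hu)
      rw [hco] at hdo
      obtain ⟨A, hA, hAnc, -, -, hAle⟩ := pair_elementary hco hdo hcd hdn
      have hAK := h.pair_le hc hd hAle
      obtain ⟨y, hy, hy1, w, hw, hw1, hyw⟩ := exists_fixes_of_noncyclic hA hAnc (hAK.trans hnorm)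
        (fun e => ne_one_of_orderOf ht hao (by rw [zpowers_eq_bot] at e; exact e))
        (by rw [Nat.card_zpowers, hao]; exact fun e => hut ((Nat.prime_dvd_prime_iff_eq
          (h.prime u hu).1 ht).1 e))
      obtain ⟨i, hi⟩ := mem_zpowers_iff.1
        ((zpowers_eq_of_mem ht hao hw hw1).symm ▸ mem_zpowers a : a ∈ zpowers w)
      exact ⟨y, hAK hy, orderOf_of_isElementaryAbelian hA hy hy1, hi ▸ (hyw.zpow_right i).symm⟩
    obtain ⟨y, hy, hyo, hay⟩ := hex r hr htr.symm
    obtain ⟨z, hz, hzo, haz'⟩ := hex s hs hts.symm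
    exact h.one_prime haK haS hf hy (hyo.symm ▸ hr) (by rw [hyo, hao]; exact htr.symm) hay hz
      (hzo.symm ▸ hs) (by rw [hzo, hao]; exact hts.symm) haz' (by rw [hyo, hzo]; exact hrs)
  exact ⟨ht2, a, hac, hao, haz, hfpf, hnorm, fun x hx hxt hxc => huniq x ⟨hx, hxt, hxc⟩⟩

/-- Elements whose order is no core prime have fixed points. -/
theorem fixes_of_core_eq_bot {x : G} (hx : x ∈ K) (hxS : orderOf x ∈ S)
    (hne : core (orderOf x) K = ⊥) : Fixes V x := by
  by_contra hf
  haveI := h.solv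
  haveI := Fact.mk (h.prime _ hxS).1
  have := mem_core_of_commute hx rfl fun t ht y hy => by
    by_cases hy1 : y = 1
    · rw [hy1]; exact Commute.one_right x
    have htne : core t K ≠ ⊥ := fun e => hy1 (by rw [e, mem_bot] at hy; exact hy)
    haveI := Fact.mk ht
    exact h.commute_of_fpf_odd (h.mem_supp ht htne) (h.exists_line ht htne).1 (core_le t K)
      (isPGroup_core t K) hx hxS (fun e => htne (e ▸ hne)) hf (le_normalizer_core t K hx) hy
  rw [hne, mem_bot] at this
  exact ne_one_of_orderOf (Fact.out : (orderOf x).Prime) rfl this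

/-- The cores are cyclic. -/
theorem isCyclic_core {t : ℕ} (ht : t.Prime) {s : ℕ} (hs : s ∈ S) (hsc : core s K = ⊥) :
    IsCyclic (core t K) := by
  by_cases hne : core t K = ⊥
  · rw [hne]; infer_instance
  haveI := Fact.mk ht
  haveI := Fact.mk (h.prime s hs).1
  obtain ⟨ht2, a, ha, hao, haz, hfa, hnorm, huniq⟩ := h.exists_line ht hne
  have htS := h.mem_supp ht hne
  have hst : s ≠ t := fun e => hne (e ▸ hsc)
  by_contra hnc
  have haK := core_le t K ha
  have haS : orderOf a ∈ S := hao.symm ▸ htS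
  set R := core t K
  -- the second centre of exponent `t`
  let X : Subgroup G :=
    { carrier := {x | x ∈ R ∧ x ^ t = 1 ∧ ∀ g ∈ R, g * x * g⁻¹ * x⁻¹ ∈ zpowers a}
      one_mem' := ⟨one_mem _, one_pow t, fun g _ => by simp⟩
      mul_mem' := fun {x y} hx hy => by
        have hza : ∀ w ∈ zpowers a, ∀ g ∈ R, Commute w g := fun w hw g hg => by
          obtain ⟨i, rfl⟩ := mem_zpowers_iff.1 hw
          exact (haz g hg).zpow_left i
        refine ⟨mul_mem hx.1 hy.1, ?_, fun g hg => ?_⟩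
        · have hc := hy.2.2 x hx.1
          set c := (x * y * x⁻¹ * y⁻¹)⁻¹ with hcdef
          have hcm : c ∈ zpowers a := inv_mem hc
          have hct : c ^ t = 1 := by
            obtain ⟨i, hi⟩ := mem_zpowers_iff.1 hcm
            rw [← hi, ← zpow_natCast, ← zpow_mul, mul_comm, zpow_mul, zpow_natCast, ← hao,
              pow_orderOf_eq_one, one_zpow]
          rw [CfsgLib.Coprime.FixedPointFreeOnModule.mul_pow_of_commute (c := c)
            (by rw [hcdef]; group) (hza c hcm x hx.1) (hza c hcm y hy.1), hx.2.1, hy.2.1,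
            one_mul, one_mul]
          obtain ⟨m, hm⟩ := (ht.dvd_choose_self (k := 2) (by norm_num)
            (lt_of_le_of_ne ht.two_le ht2.symm))
          rw [hm, pow_mul, hct, one_pow]
        · have e : g * (x * y) * g⁻¹ * (x * y)⁻¹
              = (g * x * g⁻¹) * (g * y * g⁻¹ * y⁻¹) * (g * x * g⁻¹)⁻¹ * (g * x * g⁻¹ * x⁻¹) := by
            group
          rw [e]
          have hgx : g * x * g⁻¹ ∈ R := mul_mem (mul_mem hg hx.1) (inv_mem hg)
          rw [(hza _ (hy.2.2 g hg) _ hgx).symm.eq, mul_inv_cancel_right]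
          exact mul_mem (hy.2.2 g hg) (hx.2.2 g hg)
      inv_mem' := fun {x} hx => ⟨inv_mem hx.1, by rw [inv_pow, hx.2.1, inv_one], fun g hg => by
        have e : g * x⁻¹ * g⁻¹ * x⁻¹⁻¹ = x⁻¹ * (g * x * g⁻¹ * x⁻¹)⁻¹ * x := by group
        rw [e]
        obtain ⟨i, hi⟩ := mem_zpowers_iff.1 (inv_mem (hx.2.2 g hg))
        rw [← hi, ((haz x⁻¹ (inv_mem hx.1)).zpow_left i).symm.eq, inv_mul_cancel_right]
        exact zpow_mem (mem_zpowers a) i⟩ }
  have hXK : X ≤ K := fun x hx => core_le t K hx.1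
  have hXn : K ≤ normalizer (X : Set G) := fun k hk => mem_normalizer_fintype fun x hx =>
    ⟨conj_mem_core hk hx.1, by rw [conj_pow, hx.2.1, mul_one, mul_inv_cancel], fun g hg => by
      have hg' : k⁻¹ * g * k ∈ R := by simpa using conj_mem_core (inv_mem hk) hg
      have e : g * (k * x * k⁻¹) * g⁻¹ * (k * x * k⁻¹)⁻¹
          = k * ((k⁻¹ * g * k) * x * (k⁻¹ * g * k)⁻¹ * x⁻¹) * k⁻¹ := by group
      rw [e]
      exact (mem_normalizer_iff.1 (hnorm hk) _).1 (hx.2.2 _ hg')⟩
  -- it is not contained in the line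
  obtain ⟨x, hx, hxa⟩ : ∃ x ∈ X, x ∉ zpowers a := by
    haveI : (⊤ : Subgroup R).Normal := inferInstance
    obtain ⟨E, -, hEn, hE, hEc⟩ := CfsgLib.Fusion.NormalRankTwo.exists_normal_rankTwo
      (isPGroup_core t K) ht2 (S := ⊤) (fun hc => hnc (Subgroup.topEquiv.isCyclic.1 hc))
    haveI := hEn
    set a' : R := ⟨a, ha⟩
    haveI : (zpowers a').Normal := ⟨fun w hw g => by
      obtain ⟨i, rfl⟩ := mem_zpowers_iff.1 hw
      have : g * a' ^ i * g⁻¹ = a' ^ i := by
        apply Subtype.ext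
        have e := ((haz g g.2).zpow_left i).symm.eq
        simp only [Subgroup.coe_mul, SubgroupClass.coe_zpow, InvMemClass.coe_inv, a']
        rw [e, mul_inv_cancel_right]
      rw [this]
      exact zpow_mem (mem_zpowers a') i⟩
    have hlt : ¬ E ≤ zpowers a' := fun hle => by
      have := Nat.le_of_dvd Nat.card_pos (card_dvd_of_le hle)
      rw [hEc, Nat.card_zpowers, ← orderOf_coe, hao] at this
      nlinarith [ht.two_le]
    obtain ⟨x, hxE, hxa, -, hxc⟩ :=
      CfsgLib.Fusion.NormalRankTwo.exists_central_of_lt (isPGroup_core t K) hlt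
    refine ⟨x, ⟨x.2, congrArg Subtype.val (hE.2 x hxE), fun g hg => ?_⟩, fun hxa' => ?_⟩
    · obtain ⟨i, hi⟩ := mem_zpowers_iff.1 (hxc ⟨g, hg⟩)
      exact mem_zpowers_iff.2 ⟨i, by simpa [commutatorElement_def, a'] using congrArg Subtype.val hi⟩
    · obtain ⟨i, hi⟩ := mem_zpowers_iff.1 hxa'
      exact hxa (mem_zpowers_iff.2 ⟨i, Subtype.ext (by simpa [a'] using hi)⟩)
  -- elements outside the line have fixed points
  have haX : a ∈ X := ⟨ha, by rw [← hao, pow_orderOf_eq_one], fun g hg => by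
    rw [← (haz g hg).eq, mul_inv_cancel_right, mul_inv_cancel]; exact one_mem _⟩
  have hXfix : ∀ w ∈ X, w ∉ zpowers a → Fixes V w := by
    intro w hw hwa
    have hwo : orderOf w = t := orderOf_eq_prime hw.2.1 fun e => hwa (e ▸ one_mem _)
    obtain ⟨g, hg, hgw⟩ : ∃ g ∈ R, g * w * g⁻¹ * w⁻¹ ≠ 1 := by
      by_contra hall
      push Not at hall
      exact hwa (huniq w hw.1 hw.2.1 fun g hg => by
        have := hall g hg
        rw [mul_inv_eq_one, mul_inv_eq_iff_eq_mul] at this
        exact this.symm)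
    obtain ⟨A, hA, hAnc, -, -, hAle⟩ := pair_elementary hao hwo (haz w hw.1) hwa
    obtain ⟨f, hf, hf1, hff⟩ := exists_fixes_of_noncyclic hA hAnc
      ((h.pair_le haK (hXK hw) hAle).trans h.norm) h.ne (h.not_dvd_card htS)
    obtain ⟨i, j, hij⟩ := exists_zpow_mul_of_mem_closure (haz w hw.1) (hAle hf)
    set z := g * w * g⁻¹ * w⁻¹
    have hzw : Commute z w := by
      obtain ⟨k, hk⟩ := mem_zpowers_iff.1 (hw.2.2 g hg)
      rw [show z = a ^ k from hk.symm]; exact (haz w hw.1).zpow_left k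
    have hzg : Commute z g := by
      obtain ⟨k, hk⟩ := mem_zpowers_iff.1 (hw.2.2 g hg)
      rw [show z = a ^ k from hk.symm]; exact (haz g hg).zpow_left k
    have hwj : w ^ j ≠ 1 := fun e => by
      rw [hij, e, mul_one] at hff hf1
      obtain ⟨k, hk⟩ := mem_zpowers_iff.1 ((zpowers_eq_of_mem ht hao
        (zpow_mem (mem_zpowers a) i) hf1).symm ▸ mem_zpowers a : a ∈ zpowers (a ^ i))
      exact hfa (hk ▸ hff.of_zpowers (zpow_mem (mem_zpowers _) k))
    have hzj : zpowers (z ^ j) = zpowers a := by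
      refine zpowers_eq_of_mem ht hao (zpow_mem (hw.2.2 g hg) j) fun e => hwj ?_
      have hzo : orderOf z = t := by
        refine orderOf_eq_prime ?_ hgw
        obtain ⟨k, hk⟩ := mem_zpowers_iff.1 (hw.2.2 g hg)
        rw [show z = a ^ k from hk.symm, ← zpow_natCast, ← zpow_mul, mul_comm, zpow_mul, zpow_natCast, ← hao,
          pow_orderOf_eq_one, one_zpow]
      rw [← orderOf_dvd_iff_zpow_eq_one, hwo, ← hzo, orderOf_dvd_iff_zpow_eq_one]
      exact e
    have hconj : ∀ m : ℕ, g ^ m * w * (g ^ m)⁻¹ = w * z ^ m := conj_pow_of_commutator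
      (by rw [← hzw.eq]; show _ = g * w * g⁻¹ * w⁻¹ * w; group) hzg
    obtain ⟨m, hm⟩ := (mem_powers_iff_mem_zpowers (x := z ^ j) (y := a ^ i)).2
      (hzj.symm ▸ zpow_mem (mem_zpowers a) i)
    replace hm : (z ^ j) ^ m = a ^ i := hm
    have hfe : g ^ m * w ^ j * (g ^ m)⁻¹ = f := by
      rw [← conj_zpow, hconj, (hzw.symm.pow_right m).mul_zpow, hij, ← hm, ← zpow_natCast (z ^ j),
        ← zpow_natCast z, ← zpow_mul, ← zpow_mul, mul_comm (j : ℤ)]
      exact ((hzw.zpow_left _).zpow_right j).eq.symm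
    have h1 := fixes_conj (inv_mem (pow_mem (h.norm (core_le t K hg)) m)) (hfe ▸ hff :
      Fixes V (g ^ m * w ^ j * (g ^ m)⁻¹))
    have h2 : Fixes V (w ^ j) := by
      have e : (g ^ m)⁻¹ * (g ^ m * w ^ j * (g ^ m)⁻¹) * (g ^ m)⁻¹⁻¹ = w ^ j := by group
      rwa [e] at h1
    exact h2.of_zpowers ((zpowers_eq_of_mem ht hwo (zpow_mem (mem_zpowers w) j) hwj).symm ▸
      mem_zpowers w)
  -- an elementary abelian group of the prime `s`
  obtain ⟨r, hr, u, hu, hsr, -, -⟩ := h.exists_others hs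
  obtain ⟨c, hc, -, -, hco, -, -⟩ := h.edge s hs r hr hsr
  obtain ⟨d, hd, hdo, hcd, hdn⟩ := h.big c hc (hco.symm ▸ hs)
  rw [hco] at hdo
  obtain ⟨B, hB, hBnc, -, -, hBle⟩ := pair_elementary hco hdo hcd hdn
  have hBK := h.pair_le hc hd hBle
  refine hxa ?_
  have hle : X ≤ zpowers a := by
    haveI := hB.1
    obtain ⟨n, hn⟩ := (isPGroup_of_elementary hB).exists_card_eq
    obtain ⟨k, hk⟩ := ((isPGroup_core t K).to_le (fun y hy => hy.1) : IsPGroup t X).exists_card_eq
    refine (CfsgLib.Coprime.iSup_centralizer_singleton hBnc (hBK.trans hXn)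
      (by rw [hn, hk]; exact (((Nat.coprime_primes (h.prime s hs).1 ht).2 hst).pow_left n).pow_right k)).ge.trans
      (iSup₂_le fun y hy w hw => ?_)
    by_contra hwa
    obtain ⟨hyB, hy1⟩ := hy
    have hyK := hBK hyB
    have hyo := orderOf_of_isElementaryAbelian hB hyB hy1
    have hyS : orderOf y ∈ S := hyo.symm ▸ hs
    have hfy : Fixes V y := h.fixes_of_core_eq_bot hyK hyS (hyo.symm ▸ hsc)
    have hwo : orderOf w = t := orderOf_eq_prime hw.1.2.1 fun e => hwa (e ▸ one_mem _)
    have hwS : orderOf w ∈ S := hwo.symm ▸ htS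
    have hyw : Commute y w := (mem_centralizer_singleton_iff.1 hw.2).symm
    have haw : Commute a w := haz w hw.1.1
    by_cases hya : Commute y a
    · exact h.one_rank hyK hyS hfy haK haS (by rw [hao, hyo]; exact hst.symm) hya (hXK hw.1)
        (by rw [hwo, hao]) hyw haw hwa
    · set W := V ⊓ centralizer ({w} : Set G) with hW
      have hnW : ∀ k ∈ K, Commute k w → k ∈ normalizer (W : Set G) := fun k hk hkw =>
        mem_normalizer_fintype fun v hv => ⟨(mem_normalizer_iff.1 (h.norm hk) v).1 hv.1,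
          (centralizer ({w} : Set G)).mul_mem ((centralizer ({w} : Set G)).mul_mem
            (mem_centralizer_singleton_iff.2 hkw.eq) hv.2) ((centralizer ({w} : Set G)).inv_mem
            (mem_centralizer_singleton_iff.2 hkw.eq))⟩
      have hWc : IsMulCommutative W := ⟨⟨fun u v => Subtype.ext
        (congrArg Subtype.val (h.elem.1.1.1 ⟨u, u.2.1⟩ ⟨v, v.2.1⟩) :)⟩⟩
      have hle := le_centralizer_of_frobenius hWc (inferInstance : IsMulCommutative (zpowers a))
        ((h.coprime_card htS (IsPGroup.of_card (n := 1) (by rw [Nat.card_zpowers, hao, pow_one]))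
          ).coprime_dvd_right (card_dvd_of_le inf_le_left))
        (zpowers_le.2 (hnW a haK haw)) (hnW y hyK hyw) (hnorm hyK)
        (fun i hi e he hce => by
          by_contra he1
          apply hya
          obtain ⟨m, hm⟩ := exists_pow_eq_self_of_coprime (x := y)
            (((h.prime _ hyS).1.coprime_iff_not_dvd.2 hi).symm : i.Coprime (orderOf y))
          have hye : Commute y e := hm ▸ hce.pow_left m
          obtain ⟨j, hj⟩ := mem_zpowers_iff.1
            ((zpowers_eq_of_mem ht hao he he1).symm ▸ mem_zpowers a : a ∈ zpowers e)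
          rw [← hj]
          exact hye.zpow_right j)
        (fun ⟨v, hv, hv1, hyv⟩ => hv1 (h.free y hyK w (hXK hw.1) hyS hwS
          (by rw [hyo, hwo]; exact hst) hyw v hv.1 hyv (mem_centralizer_singleton_iff.1 hv.2).symm))
      obtain ⟨v, hv, hv1, hwv⟩ := hXfix w hw.1 hwa
      refine hfa ⟨v, hv, hv1, (mem_centralizer_iff.1 (hle (mem_zpowers a)) v
        ⟨hv, mem_centralizer_singleton_iff.2 hwv.eq.symm⟩).symm⟩
  exact hle hx

/-- The configuration does not exist. -/
theorem not_exists : False := by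
  haveI := h.solv
  obtain ⟨t₁, t₂, t₃, h12, h13, h23, hS⟩ := Finset.card_eq_three.1 h.card_eq
  obtain ⟨x₁, hx₁, -, -, hx₁o, -, -⟩ := h.edge t₁ (by simp [hS]) t₂ (by simp [hS]) h12
  haveI := Fact.mk (h.prime t₁ (by simp [hS])).1
  obtain ⟨t, ht, htne⟩ := exists_core_ne_bot hx₁ hx₁o
  haveI := Fact.mk ht
  have htS := h.mem_supp ht htne
  obtain ⟨r, hr, s, hs, htr, hrs, hts⟩ := h.exists_others htS
  obtain ⟨-, a, ha, hao, haz, -, hnorm, -⟩ := h.exists_line ht htne
  have haK := core_le t K ha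
  -- commuting of lines from different cores
  have hcore_comm : ∀ u w : ℕ, u.Prime → w.Prime → u ≠ w → ∀ x ∈ core u K, ∀ y ∈ core w K,
      Commute x y := by
    intro u w hu hw huw x hx y hy
    haveI := Fact.mk hu
    haveI := Fact.mk hw
    obtain ⟨x', hx', rfl⟩ := hx
    obtain ⟨y', hy', rfl⟩ := hy
    haveI := CfsgLib.Solvable.Cores.pCore_normal (G := K) u
    haveI := CfsgLib.Solvable.Cores.pCore_normal (G := K) w
    exact congrArg Subtype.val (commute_of_normal_of_disjoint _ _ inferInstance inferInstance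
      ((CfsgLib.Solvable.Cores.isPGroup_pCore u).disjoint_of_ne u w huw _ _
        (CfsgLib.Solvable.Cores.isPGroup_pCore w)) x' y' hx' hy')
  by_cases hboth : core r K = ⊥ ∧ core s K = ⊥
  · obtain ⟨b, hb, c, hc, hbo, hco, hbc⟩ := h.edge r hr s hs hrs
    exact h.edge_fixed_false htS (zpowers_le.2 haK) inferInstance
      (IsPGroup.of_card (n := 1) (by rw [Nat.card_zpowers, hao, pow_one]))
      (fun e => ne_one_of_orderOf ht hao (by rw [zpowers_eq_bot] at e; exact e)) hnorm hb
      (hbo.symm ▸ hr) (hbo.symm ▸ htr.symm) hc (hco.symm ▸ hs) (hco.symm ▸ hts.symm)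
      (by rw [hbo, hco]; exact hrs) hbc (h.fixes_of_core_eq_bot hb (hbo.symm ▸ hr) (hbo.symm ▸ hboth.1))
      (h.fixes_of_core_eq_bot hc (hco.symm ▸ hs) (hco.symm ▸ hboth.2))
  -- name the second non-trivial core
  obtain ⟨u, hu, w, hw, htu, huw, htw, hune⟩ : ∃ u ∈ S, ∃ w ∈ S, t ≠ u ∧ u ≠ w ∧ t ≠ w ∧
      core u K ≠ ⊥ := by
    by_cases hrne : core r K = ⊥
    · exact ⟨s, hs, r, hr, hts, hrs.symm, htr, fun e => hboth ⟨hrne, e⟩⟩
    · exact ⟨r, hr, s, hs, htr, hrs, hts, hrne⟩
  obtain ⟨-, b, hb, hbo, -, -, -, -⟩ := h.exists_line (h.prime u hu).1 hune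
  have hwbot : core w K = ⊥ := by
    by_contra hwne
    obtain ⟨-, c, hc, hco, -, -, -, -⟩ := h.exists_line (h.prime w hw).1 hwne
    exact h.no3 a haK b (core_le u K hb) c (core_le w K hc) (hao.symm ▸ htS) (hbo.symm ▸ hu)
      (hco.symm ▸ hw) (by rw [hao, hbo]; exact htu) (by rw [hbo, hco]; exact huw)
      (by rw [hao, hco]; exact htw) (hcore_comm t u ht (h.prime u hu).1 htu a ha b hb)
      (hcore_comm u w (h.prime u hu).1 (h.prime w hw).1 huw b hb c hc)
      (hcore_comm t w ht (h.prime w hw).1 htw a ha c hc)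
  have hcyc : ∀ l : ℕ, l.Prime → IsCyclic (core l K) := fun l hl => h.isCyclic_core hl hw hwbot
  -- the larger of the two primes
  obtain ⟨m, hm, hmne, hmax⟩ : ∃ m : ℕ, m ∈ S ∧ core m K ≠ ⊥ ∧
      ∀ l : ℕ, l.Prime → core l K ≠ ⊥ → l ≤ m := by
    have key : ∀ l : ℕ, l.Prime → core l K ≠ ⊥ → l = t ∨ l = u := fun l hl hlne => by
      rcases h.mem_cases htS hu hw htu huw htw (h.mem_supp hl hlne) with e | e | e
      · exact Or.inl e
      · exact Or.inr e
      · exact absurd (e ▸ hwbot) hlne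
    rcases le_total t u with hle | hle
    · exact ⟨u, hu, hune, fun l hl hlne => by rcases key l hl hlne with e | e <;> omega⟩
    · exact ⟨t, htS, htne, fun l hl hlne => by rcases key l hl hlne with e | e <;> omega⟩
  haveI := Fact.mk (h.prime m hm).1
  obtain ⟨x, hx, hxo⟩ := exists_orderOf_eq_of_ne_bot (isPGroup_core m K) hmne
  obtain ⟨d, hd, hdo, hxd, hdn⟩ := h.big x (core_le m K hx) (hxo.symm ▸ hm)
  rw [hxo] at hdo
  obtain ⟨A, -, hAnc, -, -, hAle⟩ := pair_elementary hxo hdo hxd hdn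
  have hdm := mem_core_of_cyclic hcyc hd hdo hmax
  have hAc : A ≤ core m K := hAle.trans ((closure_le _).2 (by rintro z (rfl | rfl) <;> assumption))
  haveI := hcyc m (h.prime m hm).1
  exact hAnc (isCyclic_of_injective (inclusion hAc) (inclusion_injective hAc))

end CfsgLib.Solvable.ThreePrimeOrders.Setting
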