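import Cfsg.Agent.Lib.Solvable.ThreePrimeOrders.Tools

/-!
# A solvable group of two primes acting on two modules without common fixed points
-/

set_option autoImplicit false
set_option linter.style.haveILetI false

namespace CfsgLib.Solvable.ThreePrimeOrders

open Subgroup
open scoped commutatorElement

variable {G : Type*} [Group G] [Finite G]

/-- A group of two primes acting jointly faithfully on two modules such that no element fixes
something in both and commuting elements of the two primes fix nothing in common. -/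
structure TwoSetting (p q : ℕ) (V W L : Subgroup G) (r s : ℕ) : Prop where
  solv : Group.IsSolvable G
  hp : p.Prime
  hq : q.Prime
  hr : r.Prime
  hs : s.Prime
  hrs : r ≠ s
  hrp : r ≠ p
  hsp : s ≠ p
  hrq : r ≠ q
  hsq : s ≠ q
  elemV : Cfsg.IsElementaryAbelian p V
  elemW : Cfsg.IsElementaryAbelian q W
  neV : V ≠ ⊥
  neW : W ≠ ⊥
  normV : L ≤ normalizer (V : Set G)
  normW : L ≤ normalizer (W : Set G)
  supp : ∀ t : ℕ, t.Prime → t ∣ Nat.card L → t = r ∨ t = s
  faithful : ∀ x ∈ L, x ∈ centralizer (V : Set G) → x ∈ centralizer (W : Set G) → x = 1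
  single : ∀ x ∈ L, (orderOf x = r ∨ orderOf x = s) → Fixes V x → ¬ Fixes W x
  freeV : ∀ x ∈ L, ∀ y ∈ L, orderOf x = r → orderOf y = s → Commute x y →
    ∀ v ∈ V, Commute x v → Commute y v → v = 1
  freeW : ∀ x ∈ L, ∀ y ∈ L, orderOf x = r → orderOf y = s → Commute x y →
    ∀ v ∈ W, Commute x v → Commute y v → v = 1
  pairR : ∃ x ∈ L, ∃ y ∈ L, orderOf x = r ∧ orderOf y = r ∧ Commute x y ∧ y ∉ zpowers x
  bigS : ∀ c ∈ L, orderOf c = s → ∃ d ∈ L, orderOf d = s ∧ Commute c d ∧ d ∉ zpowers c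
  pairS : ∃ x ∈ L, ∃ y ∈ L, orderOf x = s ∧ orderOf y = s ∧ Commute x y ∧ y ∉ zpowers x
  bigR : ∀ c ∈ L, orderOf c = r → ∃ d ∈ L, orderOf d = r ∧ Commute c d ∧ d ∉ zpowers c

namespace TwoSetting

variable {p q : ℕ} {V W L : Subgroup G} {r s : ℕ} (h : TwoSetting p q V W L r s)
include h

omit [Finite G] in
theorem swapModules : TwoSetting q p W V L r s :=
  ⟨h.solv, h.hq, h.hp, h.hr, h.hs, h.hrs, h.hrq, h.hsq, h.hrp, h.hsp, h.elemW, h.elemV, h.neW,
    h.neV, h.normW, h.normV, h.supp, fun x hx a b => h.faithful x hx b a,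
    fun x hx ho a b => h.single x hx ho b a, h.freeW, h.freeV, h.pairR, h.bigS, h.pairS, h.bigR⟩

omit [Finite G] in
theorem swapPrimes : TwoSetting p q V W L s r :=
  ⟨h.solv, h.hp, h.hq, h.hs, h.hr, h.hrs.symm, h.hsp, h.hrp, h.hsq, h.hrq, h.elemV, h.elemW, h.neV,
    h.neW, h.normV, h.normW, fun t ht hd => (h.supp t ht hd).symm, h.faithful,
    fun x hx ho => h.single x hx ho.symm,
    fun x hx y hy hxo hyo hc v hv a b => h.freeV y hy x hx hyo hxo hc.symm v hv b a,
    fun x hx y hy hxo hyo hc v hv a b => h.freeW y hy x hx hyo hxo hc.symm v hv b a,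
    h.pairS, h.bigR, h.pairR, h.bigS⟩

theorem not_dvd_cardV : ¬ r ∣ Nat.card V := fun hd => by
  haveI := Fact.mk h.hp
  obtain ⟨n, hn⟩ := (isPGroup_of_elementary h.elemV).exists_card_eq
  exact h.hrp ((Nat.prime_dvd_prime_iff_eq h.hr h.hp).1 (h.hr.dvd_of_dvd_pow (hn ▸ hd)))

omit [Finite G] in
theorem pair_le {x y : G} (hx : x ∈ L) (hy : y ∈ L) {A : Subgroup G}
    (hA : A ≤ closure ({x, y} : Set G)) : A ≤ L :=
  hA.trans ((closure_le _).2 (by rintro z (rfl | rfl) <;> assumption))

/-- Some element of order `r` fixes something of `V`. -/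
theorem exists_fixesR : ∃ x ∈ L, orderOf x = r ∧ Fixes V x := by
  haveI := Fact.mk h.hr
  obtain ⟨x, hx, y, hy, hxo, hyo, hxy, hny⟩ := h.pairR
  obtain ⟨A, hA, hAnc, -, -, hAle⟩ := pair_elementary hxo hyo hxy hny
  have hAL := h.pair_le hx hy hAle
  obtain ⟨a, ha, ha1, hf⟩ := exists_fixes_of_noncyclic hA hAnc (hAL.trans h.normV) h.neV
    h.not_dvd_cardV
  exact ⟨a, hAL ha, orderOf_of_isElementaryAbelian hA ha ha1, hf⟩

/-- A central involution centralising `V` is impossible. -/
theorem no_central_fixing {z : G} (hz : z ∈ L) (hzs : orderOf z = s)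
    (hV : z ∈ centralizer (V : Set G)) (hc : ∀ g ∈ L, Commute z g) : False := by
  obtain ⟨x, hx, hxo, v, hv, hv1, hxv⟩ := h.exists_fixesR
  exact hv1 (h.freeV x hx z hz hxo hzs (hc x hx).symm v hv hxv
    (mem_centralizer_iff.1 hV v hv).symm)

/-- The second prime is odd. -/
theorem s_ne_two : s ≠ 2 := by
  intro e
  haveI := Fact.mk h.hs
  obtain ⟨x, hx, y, hy, hxo, hyo, hxy, hny⟩ := h.pairS
  have hxy1 : x ≠ y := fun e' => hny (e' ▸ mem_zpowers x)
  have hsq : ∀ t : G, orderOf t = s → t ^ 2 = 1 := fun t ht => by rw [← e, ← ht, pow_orderOf_eq_one]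
  set z := x * y
  have hzo : orderOf z = s := by
    refine orderOf_eq_prime (by rw [hxy.mul_pow, e, hsq x hxo, hsq y hyo, one_mul]) fun e' => hxy1 ?_
    rw [eq_inv_of_mul_eq_one_left e', inv_eq_iff_mul_eq_one, ← pow_two, hsq y hyo]
  have hzL : z ∈ L := mul_mem hx hy
  have hxz : Commute x z := (Commute.refl x).mul_right hxy
  have hyz : Commute y z := hxy.symm.mul_right (Commute.refl y)
  -- two of the three invert the same module
  have key : ∀ {p' q' : ℕ} {V' W' : Subgroup G}, TwoSetting p' q' V' W' L r s → ∀ u w : G, u ∈ L →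
      w ∈ L → orderOf u = s → orderOf w = s → u ≠ w → Commute u w → ¬ Fixes V' u → ¬ Fixes V' w →
      False := by
    intro p' q' V' W' h' u w hu hw huo hwo huw huwc hfu hfw
    set t := u * w with ht
    have hto : orderOf t = s := by
      refine orderOf_eq_prime (by rw [huwc.mul_pow, e, hsq u huo, hsq w hwo, one_mul]) fun e' => huw ?_
      rw [eq_inv_of_mul_eq_one_left e', inv_eq_iff_mul_eq_one, ← pow_two, hsq w hwo]
    have htL : t ∈ L := mul_mem hu hw
    have htV : ∀ v ∈ V', t * v * t⁻¹ = v := fun v hv => by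
      have e1 := inv_of_fpf_involution h'.elemV.1 (hsq w hwo) (h'.normV hw) hfw hv
      have e2 := inv_of_fpf_involution h'.elemV.1 (hsq u huo) (h'.normV hu) hfu (inv_mem hv)
      calc t * v * t⁻¹ = u * (w * v * w⁻¹) * u⁻¹ := by rw [ht]; group
        _ = v := by rw [e1, e2, inv_inv]
    have htc : t ∈ centralizer (V' : Set G) :=
      mem_centralizer_iff.2 fun v hv => (mul_inv_eq_iff_eq_mul.1 (htV v hv)).symm
    obtain ⟨v, hv, hv1⟩ := V'.bot_or_exists_ne_one.resolve_left h'.neV
    have htW : ¬ Fixes W' t := h'.single t htL (Or.inr hto)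
      ⟨v, hv, hv1, (mem_centralizer_iff.1 htc v hv).symm⟩
    refine h'.no_central_fixing htL hto htc fun g hg => ?_
    have hd : g⁻¹ * (t * g * t⁻¹) = 1 := by
      refine h'.faithful _ (mul_mem (inv_mem hg) (mul_mem (mul_mem htL hg) (inv_mem htL))) ?_ ?_
      · rw [mem_centralizer_iff]
        intro v hv
        have h1 : g⁻¹ * v * g ∈ V' := by
          simpa using (mem_normalizer_iff.1 (h'.normV (inv_mem hg)) v).1 hv
        have hgv : g * v * g⁻¹ ∈ V' := (mem_normalizer_iff.1 (h'.normV hg) v).1 hv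
        symm
        rw [← mul_inv_eq_iff_eq_mul]
        calc g⁻¹ * (t * g * t⁻¹) * v * (g⁻¹ * (t * g * t⁻¹))⁻¹
            = g⁻¹ * (t * (g * (t⁻¹ * v * t) * g⁻¹) * t⁻¹) * g := by group
          _ = g⁻¹ * (t * (g * v * g⁻¹) * t⁻¹) * g := by
              have : t⁻¹ * v * t = v := by
                have := htV v hv
                calc t⁻¹ * v * t = t⁻¹ * (t * v * t⁻¹) * t := by rw [this]
                  _ = v := by group
              rw [this]
          _ = v := by rw [htV _ hgv]; group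
      · rw [mem_centralizer_iff]
        intro v hv
        have hinv : ∀ w' ∈ W', t * w' * t⁻¹ = w'⁻¹ := fun w' hw' =>
          inv_of_fpf_involution h'.elemW.1 (hsq t hto) (h'.normW htL) htW hw'
        have hgv : g * v⁻¹ * g⁻¹ ∈ W' :=
          (mem_normalizer_iff.1 (h'.normW hg) _).1 (inv_mem hv)
        symm
        rw [← mul_inv_eq_iff_eq_mul]
        have ht' : t⁻¹ = t := inv_eq_of_mul_eq_one_right (by rw [← pow_two, hsq t hto])
        calc g⁻¹ * (t * g * t⁻¹) * v * (g⁻¹ * (t * g * t⁻¹))⁻¹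
            = g⁻¹ * (t * (g * (t⁻¹ * v * t) * g⁻¹) * t⁻¹) * g := by group
          _ = g⁻¹ * (g * v⁻¹ * g⁻¹)⁻¹ * g := by
              have h2 := hinv v hv
              rw [ht'] at h2
              rw [show t⁻¹ * v * t = v⁻¹ by rw [ht']; exact h2, hinv _ hgv]
          _ = v := by group
    rw [inv_mul_eq_one, eq_comm, mul_inv_eq_iff_eq_mul] at hd
    exact hd
  have side : ∀ t ∈ L, orderOf t = s → ¬ Fixes V t ∨ ¬ Fixes W t := fun t ht hto => by
    by_cases hf : Fixes V t
    · exact Or.inr (h.single t ht (Or.inr hto) hf)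
    · exact Or.inl hf
  have hxz1 : x ≠ z := fun e' => ne_one_of_orderOf h.hs hyo (left_eq_mul.1 e')
  have hyz1 : y ≠ z := fun e' => ne_one_of_orderOf h.hs hxo (right_eq_mul.1 e')
  rcases side x hx hxo with hfx | hfx <;> rcases side y hy hyo with hfy | hfy
  · exact key h x y hx hy hxo hyo hxy1 hxy hfx hfy
  · rcases side z hzL hzo with hfz | hfz
    · exact key h x z hx hzL hxo hzo hxz1 hxz hfx hfz
    · exact key h.swapModules y z hy hzL hyo hzo hyz1 hyz hfy hfz
  · rcases side z hzL hzo with hfz | hfz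
    · exact key h y z hy hzL hyo hzo hyz1 hyz hfy hfz
    · exact key h.swapModules x z hx hzL hxo hzo hxz1 hxz hfx hfz
  · exact key h.swapModules x y hx hy hxo hyo hxy1 hxy hfx hfy

/-- No two independent commuting elements of order `r` fix nothing on one side. -/
theorem rankOne_centralizing {x y : G} (hx : x ∈ L) (hy : y ∈ L) (hxo : orderOf x = r)
    (hyo : orderOf y = r) (hxy : Commute x y) (hxW : x ∈ centralizer (W : Set G))
    (hyW : y ∈ centralizer (W : Set G)) : y ∈ zpowers x := by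
  by_contra hny
  haveI := Fact.mk h.hr
  obtain ⟨A, hA, hAnc, -, -, hAle⟩ := pair_elementary hxo hyo hxy hny
  have hAL := h.pair_le hx hy hAle
  obtain ⟨a, ha, ha1, hf⟩ := exists_fixes_of_noncyclic hA hAnc (hAL.trans h.normV) h.neV
    h.not_dvd_cardV
  have haW : a ∈ centralizer (W : Set G) := by
    obtain ⟨i, j, rfl⟩ := exists_zpow_mul_of_mem_closure hxy (hAle ha)
    exact mul_mem (zpow_mem hxW i) (zpow_mem hyW j)
  obtain ⟨w, hw, hw1⟩ := W.bot_or_exists_ne_one.resolve_left h.neW
  exact h.single a (hAL ha) (Or.inl (orderOf_of_isElementaryAbelian hA ha ha1)) hf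
    ⟨w, hw, hw1, (mem_centralizer_iff.1 haW w hw).symm⟩

theorem commute_core_aux {y g : G} (hy : y ∈ L) (hyo : orderOf y = s) (hf : ¬ Fixes W y)
    (hg : g ∈ core r L) : Commute y g := by
  haveI := Fact.mk h.hp
  haveI := Fact.mk h.hq
  haveI := Fact.mk h.hr
  haveI := Fact.mk h.hs
  have hr2 : r ≠ 2 := h.swapPrimes.s_ne_two
  set D := core r L ⊓ centralizer (W : Set G) with hD
  set u := g⁻¹ * (y * g * y⁻¹) with hu
  have huD : u ∈ D := mem_inf.2 ⟨mul_mem (inv_mem hg) (conj_mem_core hy hg),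
    comm_mem_of_odd h.elemW (isPGroup_core r L) hr2 h.hrq.symm h.hsq.symm h.hrs hyo
      ((core_le r L).trans h.normW) (h.normW hy) (le_normalizer_core r L hy) hf hg⟩
  have hDp : IsPGroup r D := (isPGroup_core r L).to_le inf_le_left
  have hDL : ∀ x ∈ D, x ∈ L := fun x hx => core_le r L hx.1
  have hone : ∀ x ∈ D, ∀ z ∈ D, orderOf x = r → orderOf z = r → Commute x z → z ∈ zpowers x :=
    fun x hx z hz hxo hzo hxz => h.rankOne_centralizing (hDL x hx) (hDL z hz) hxo hzo hxz hx.2 hz.2
  have hDcyc : IsCyclic D := isCyclic_of_rankOne hDp hr2 hone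
  have hnorm : ∀ k ∈ L, ∀ x ∈ D, k * x * k⁻¹ ∈ D := fun k hk x hx => mem_inf.2 ⟨conj_mem_core hk hx.1, by
    rw [mem_centralizer_iff]
    intro w hw
    have h1 : k⁻¹ * w * k ∈ W := by
      simpa using (mem_normalizer_iff.1 (h.normW (inv_mem hk)) w).1 hw
    calc w * (k * x * k⁻¹) = k * ((k⁻¹ * w * k) * x) * k⁻¹ := by group
      _ = k * (x * (k⁻¹ * w * k)) * k⁻¹ := by rw [mem_centralizer_iff.1 hx.2 _ h1]
      _ = k * x * k⁻¹ * w := by group⟩
  have hcop : (orderOf u).Coprime s := by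
    obtain ⟨k, hk⟩ := IsPGroup.iff_orderOf.1 (isPGroup_core r L) ⟨u, huD.1⟩
    rw [Subgroup.orderOf_mk] at hk
    rw [hk]
    exact ((Nat.coprime_primes h.hr h.hs).2 h.hrs).pow_left k
  suffices hyu : Commute y u by
    exact commute_of_commutator_fixed (z := u) (t := s) (by rw [← hyo, pow_orderOf_eq_one]) hcop
      (by rw [hu]; group) hyu.symm
  by_cases hu1 : u = 1
  · rw [hu1]; exact Commute.one_right y
  obtain ⟨m, hm⟩ := exists_orderOf_pow (orderOf_dvd_of_isPGroup hDp huD hu1) (isOfFinOrder_of_finite u)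
  set a := u ^ m
  have haD : a ∈ D := pow_mem huD m
  refine commute_of_cyclic h.hrs hDp hDcyc hyo
    (mem_normalizer_fintype fun x hx => hnorm y hy x hx) haD hm ?_ u huD
  by_contra hya
  have haL := hDL a haD
  have haN : L ≤ normalizer (zpowers a : Set G) := fun k hk => mem_normalizer_zpowers
    (mem_zpowers_of_rankOne hDp hone haD (hnorm k hk a haD) hm
      (by rw [← MulAut.conj_apply, MulEquiv.orderOf_eq, hm]))
  have haW : ∀ w ∈ W, Commute a w := fun w hw => (mem_centralizer_iff.1 haD.2 w hw).symm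
  obtain ⟨w, hw, hw1⟩ := W.bot_or_exists_ne_one.resolve_left h.neW
  have hfa : ¬ Fixes V a := fun hfv => h.single a haL (Or.inl hm) hfv ⟨w, hw, hw1, haW w hw⟩
  obtain ⟨d, hd, hdo, hyd, hdn⟩ := h.bigS y hy hyo
  obtain ⟨B, hB, hBnc, hyB, -, hBle⟩ := pair_elementary hyo hdo hyd hdn
  have hBL := h.pair_le hy hd hBle
  obtain ⟨b, hb, hb1, hfb⟩ := exists_fixes_of_noncyclic hB hBnc (hBL.trans h.normW) h.neW
    h.swapModules.swapPrimes.not_dvd_cardV
  have hbo := orderOf_of_isElementaryAbelian hB hb hb1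
  obtain ⟨w', hw', hw'1, hbw⟩ := hfb
  have hba : ¬ Commute b a := fun hba =>
    hw'1 (h.freeW a haL b (hBL hb) hm hbo hba.symm w' hw' (haW w' hw') hbw)
  refine h.single b (hBL hb) (Or.inr hbo) ?_ ⟨w', hw', hw'1, hbw⟩
  by_contra hfv
  have hle := le_centralizer_of_frobenius h.elemV.1 (inferInstance : IsMulCommutative (zpowers a))
    (by rw [Nat.card_zpowers, hm, h.hr.coprime_iff_not_dvd]; exact h.not_dvd_cardV)
    (zpowers_le.2 (h.normV haL)) (h.normV (hBL hb)) (haN (hBL hb))
    (fun i hi e he hbe => by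
      by_contra he1
      apply hba
      obtain ⟨k, hk⟩ := exists_pow_eq_self_of_coprime (x := b) (by
        rw [hbo]; exact (h.hs.coprime_iff_not_dvd.2 (hbo ▸ hi)).symm : i.Coprime (orderOf b))
      have hbe' : Commute b e := hk ▸ hbe.pow_left k
      obtain ⟨j, hj⟩ := mem_zpowers_iff.1
        ((zpowers_eq_of_mem h.hr hm he he1).symm ▸ mem_zpowers a : a ∈ zpowers e)
      exact hj ▸ hbe'.zpow_right j) hfv
  obtain ⟨v, hv, hv1⟩ := V.bot_or_exists_ne_one.resolve_left h.neV
  exact hfa ⟨v, hv, hv1, (mem_centralizer_iff.1 (hle (mem_zpowers a)) v hv).symm⟩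

/-- Elements of order `s` centralise `O_r(L)`. -/
theorem commute_core {y g : G} (hy : y ∈ L) (hyo : orderOf y = s) (hg : g ∈ core r L) :
    Commute y g := by
  by_cases hf : Fixes W y
  · exact h.swapModules.commute_core_aux hy hyo
      (fun hV => h.single y hy (Or.inr hyo) hV hf) hg
  · exact h.commute_core_aux hy hyo hf hg

/-- `O_r(L)` is cyclic. -/
theorem isCyclic_core : IsCyclic (core r L) := by
  haveI := Fact.mk h.hr
  haveI := Fact.mk h.hs
  refine isCyclic_of_rankOne (isPGroup_core r L) h.swapPrimes.s_ne_two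
    fun x hx y hy hxo hyo hxy => ?_
  by_contra hny
  obtain ⟨c, hc, hco, hfc⟩ := h.swapPrimes.exists_fixesR
  obtain ⟨A, hA, hAnc, -, -, hAle⟩ := pair_elementary hxo hyo hxy hny
  have hxL := core_le r L hx
  have hyL := core_le r L hy
  have hAL := h.pair_le hxL hyL hAle
  have hcA : ∀ a ∈ A, Commute c a := fun a ha => by
    obtain ⟨i, j, rfl⟩ := exists_zpow_mul_of_mem_closure hxy (hAle ha)
    exact ((h.commute_core hc hco hx).zpow_right i).mul_right
      ((h.commute_core hc hco hy).zpow_right j)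
  set U := V ⊓ centralizer ({c} : Set G) with hU
  have hAU : A ≤ normalizer (U : Set G) := fun a ha => mem_normalizer_fintype fun v hv =>
    ⟨(mem_normalizer_iff.1 (h.normV (hAL ha)) v).1 hv.1,
      (centralizer ({c} : Set G)).mul_mem ((centralizer ({c} : Set G)).mul_mem
        (mem_centralizer_singleton_iff.2 (hcA a ha).eq.symm) hv.2)
        ((centralizer ({c} : Set G)).inv_mem (mem_centralizer_singleton_iff.2 (hcA a ha).eq.symm))⟩
  obtain ⟨a, ha, ha1, v, hv, hv1, hav⟩ := exists_fixes_of_noncyclic hA hAnc hAU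
    (fun e => not_fixes_iff.2 e hfc)
    (fun hd => h.not_dvd_cardV (hd.trans (card_dvd_of_le inf_le_left)))
  exact hv1 (h.freeV a (hAL ha) c hc (orderOf_of_isElementaryAbelian hA ha ha1) hco
    (hcA a ha).symm v hv.1 hav (mem_centralizer_singleton_iff.1 hv.2).symm)

/-- The configuration does not exist. -/
theorem not_exists : False := by
  wlog hlt : s < r generalizing r s
  · exact this h.swapPrimes (lt_of_le_of_ne (not_lt.1 hlt) h.hrs)
  haveI := h.solv
  haveI := Fact.mk h.hr
  have hcyc : ∀ t : ℕ, t.Prime → IsCyclic (core t L) := by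
    intro t ht
    haveI := Fact.mk ht
    by_cases hne : core t L = ⊥
    · rw [hne]; infer_instance
    rcases h.supp t ht ((dvd_card_of_core_ne_bot hne).trans (card_dvd_of_le (core_le t L))) with
      rfl | rfl
    · exact h.isCyclic_core
    · exact h.swapPrimes.isCyclic_core
  have hmax : ∀ t : ℕ, t.Prime → core t L ≠ ⊥ → t ≤ r := fun t ht hne => by
    haveI := Fact.mk ht
    rcases h.supp t ht ((dvd_card_of_core_ne_bot hne).trans (card_dvd_of_le (core_le t L))) with
      rfl | rfl <;> omega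
  obtain ⟨x, hx, y, hy, hxo, hyo, hxy, hny⟩ := h.pairR
  obtain ⟨A, -, hAnc, -, -, hAle⟩ := pair_elementary hxo hyo hxy hny
  have hxc := mem_core_of_cyclic hcyc hx hxo hmax
  have hyc := mem_core_of_cyclic hcyc hy hyo hmax
  have hAc : A ≤ core r L := hAle.trans ((closure_le _).2 (by rintro z (rfl | rfl) <;> assumption))
  haveI := hcyc r h.hr
  exact hAnc (isCyclic_of_injective (inclusion hAc) (inclusion_injective hAc))

end TwoSetting

end CfsgLib.Solvable.ThreePrimeOrders
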