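import Cfsg.Agent.Lib.Solvable.ThreePrimeOrders.Faithful
import Cfsg.Agent.Lib.Solvable.ThreePrimeOrders.TwoModules
import Cfsg.Agent.Lib.Coprime.FixedFree.AutPClosed
import Cfsg.Agent.Lib.PGroup.Frattini

/-!
# Four primes pairwise but not triply joined in the element orders of a solvable group

A finite solvable group cannot have four primes any two of which, but no three of which, divide
the order of one element.
-/

set_option autoImplicit false
set_option linter.style.haveILetI false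

namespace CfsgLib.Solvable.ThreePrimeOrders

open Subgroup
open scoped commutatorElement Pointwise

variable {G : Type*} [Group G] [Finite G]

/-- A solvable group of exactly four primes, any two but no three joined in an element order. -/
structure Four (G : Type*) [Group G] [Finite G] (S : Finset ℕ) : Prop where
  solv : Group.IsSolvable G
  prime : ∀ t ∈ S, t.Prime
  card_eq : S.card = 4
  supp : ∀ t : ℕ, t.Prime → t ∣ Nat.card G → t ∈ S
  pair : ∀ t ∈ S, ∀ u ∈ S, t ≠ u → ∃ g : G, orderOf g = t * u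
  no3 : ∀ a ∈ S, ∀ b ∈ S, ∀ c ∈ S, a ≠ b → b ≠ c → a ≠ c → ∀ g : G, orderOf g ≠ a * b * c

theorem exists_conj_mem_hall {π : Set ℕ} {H : Subgroup G} (hG : Group.IsSolvable G)
    (hH : Cfsg.IsPiHallOf π H ⊤) {g : G} (hg : ∀ q : ℕ, q.Prime → q ∣ orderOf g → q ∈ π) :
    ∃ a : G, a * g * a⁻¹ ∈ H := by
  have htop : Group.IsSolvable (⊤ : Subgroup G) :=
    Group.isSolvable_of_isSolvable_injective (subtype_injective ⊤)
  obtain ⟨K, hK, hle⟩ := CfsgLib.Coprime.exists_hall_ge π htop (U := zpowers g) le_top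
    (fun q hq hd => hg q hq (Nat.card_zpowers g ▸ hd))
  obtain ⟨a, -, rfl⟩ := CfsgLib.Coprime.hall_conj htop hK hH
  exact ⟨a, g, hle (mem_zpowers g), rfl⟩

theorem dvd_card_hall {π : Set ℕ} {H Y : Subgroup G} (hH : Cfsg.IsPiHallOf π H Y) {q : ℕ}
    (hq : q.Prime) (hqπ : q ∈ π) (hd : q ∣ Nat.card Y) : q ∣ Nat.card H := by
  rw [← CfsgLib.Coprime.card_mul_relIndex_eq hH.1] at hd
  exact (hq.dvd_mul.1 hd).resolve_right (hH.2.2 q hq hqπ)

/-- The Frattini subgroup of `O_t(G)` in the ambient group. -/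
def phiCore (t : ℕ) (G : Type*) [Group G] : Subgroup G :=
  (frattini (Cfsg.pCore t G)).map (Cfsg.pCore t G).subtype

omit [Finite G] in
theorem phiCore_le (t : ℕ) : phiCore t G ≤ Cfsg.pCore t G := map_subtype_le _

omit [Finite G] in
theorem phiCore_normal (t : ℕ) : (phiCore t G).Normal := by
  haveI : (Cfsg.pCore t G).Normal := CfsgLib.Solvable.Cores.pCore_normal t
  exact inferInstanceAs ((frattini (Cfsg.pCore t G)).map (Cfsg.pCore t G).subtype).Normal

theorem eq_of_dvd_card_pCore {p q : ℕ} (hp : p.Prime) (hq : q.Prime) {N : Subgroup G}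
    (hN : N ≤ Cfsg.pCore p G) (hd : q ∣ Nat.card N) : q = p := by
  haveI := Fact.mk hp
  obtain ⟨n, hn⟩ := (CfsgLib.Solvable.Cores.isPGroup_pCore (G := G) p).exists_card_eq
  exact (Nat.prime_dvd_prime_iff_eq hq hp).1
    (hq.dvd_of_dvd_pow (hn ▸ hd.trans (card_dvd_of_le hN)))

theorem commute_of_cores {p q : ℕ} (hp : p.Prime) (hq : q.Prime) (hpq : p ≠ q) {x y : G}
    (hx : x ∈ Cfsg.pCore p G) (hy : y ∈ Cfsg.pCore q G) : Commute x y := by
  haveI := Fact.mk hp
  haveI := Fact.mk hq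
  exact commute_of_normal_of_disjoint _ _ (CfsgLib.Solvable.Cores.pCore_normal p)
    (CfsgLib.Solvable.Cores.pCore_normal q)
    ((CfsgLib.Solvable.Cores.isPGroup_pCore p).disjoint_of_ne p q hpq _ _
      (CfsgLib.Solvable.Cores.isPGroup_pCore q)) x y hx hy

/-- An element of prime order `l` centralising all cores modulo their Frattini subgroups lies in
`O_l(G)`. -/
theorem pCore_ne_bot_of_central [Group.IsSolvable G] {m : G} {l : ℕ} (hl : l.Prime)
    (hm : orderOf m = l)
    (hc : ∀ t : ℕ, t.Prime → Cfsg.pCore t G ≠ ⊥ → t ≠ l →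
      ∀ y ∈ Cfsg.pCore t G, (m * y * m⁻¹)⁻¹ * y ∈ phiCore t G) : Cfsg.pCore l G ≠ ⊥ := by
  intro hbot
  haveI := Fact.mk hl
  have hcomm : ∀ t : ℕ, t.Prime → ∀ y ∈ Cfsg.pCore t G, Commute m y := by
    intro t ht y hy
    by_cases hb : Cfsg.pCore t G = ⊥
    · rw [hb, mem_bot] at hy
      rw [hy]
      exact Commute.one_right m
    have htl : t ≠ l := fun e => hb (e ▸ hbot)
    haveI := Fact.mk ht
    haveI : (Cfsg.pCore t G).Normal := CfsgLib.Solvable.Cores.pCore_normal t
    have h1 : MulAut.conjNormal (H := Cfsg.pCore t G) m = 1 := by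
      refine Cfsg.Agent.FixedFree.eq_one_of_frattiniAut (CfsgLib.Solvable.Cores.isPGroup_pCore t)
        hl htl.symm (by rw [← map_pow, ← hm, pow_orderOf_eq_one, map_one]) ?_
      refine MulEquiv.ext fun u => ?_
      obtain ⟨z, rfl⟩ := QuotientGroup.mk'_surjective _ u
      show QuotientGroup.mk' _ (MulAut.conjNormal (H := Cfsg.pCore t G) m z) = QuotientGroup.mk' _ z
      refine QuotientGroup.eq.2 ?_
      obtain ⟨w, hw, hwe⟩ := hc t ht hb htl z z.2
      have he : ((MulAut.conjNormal (H := Cfsg.pCore t G) m) z)⁻¹ * z = w := by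
        apply Subtype.ext
        simpa [MulAut.conjNormal_apply, mul_assoc] using hwe.symm
      rw [he]
      exact hw
    have h2 := congrArg Subtype.val (MulEquiv.congr_fun h1 ⟨y, hy⟩)
    simp only [MulAut.conjNormal_apply, MulAut.one_apply] at h2
    exact mul_inv_eq_iff_eq_mul.1 h2
  have hF : m ∈ Cfsg.fittingSubgroup G := by
    apply CfsgLib.Solvable.Cores.centralizer_fittingSubgroup_le
    rw [CfsgLib.Solvable.Cores.fittingSubgroup_eq_iSup_pCore]
    have hle : (⨆ t : Nat.Primes, Cfsg.pCore (t : ℕ) G) ≤ centralizer {m} :=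
      iSup_le fun t y hy => mem_centralizer_singleton_iff.2 (hcomm t t.2 y hy).eq.symm
    exact mem_centralizer_iff.2 fun y hy => mem_centralizer_singleton_iff.1 (hle hy)
  have := mem_pCore_of_mem_fitting hF hm
  rw [hbot, mem_bot] at this
  exact ne_one_of_orderOf hl hm this

/-- The image of a core modulo a normal subgroup meeting it in its Frattini subgroup. -/
theorem elementary_image {p : ℕ} (hp : p.Prime) (hne : Cfsg.pCore p G ≠ ⊥) (N : Subgroup G)
    [N.Normal] (hle : phiCore p G ≤ N) (hinf : Cfsg.pCore p G ⊓ N ≤ phiCore p G) :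
    Cfsg.IsElementaryAbelian p ((Cfsg.pCore p G).map (QuotientGroup.mk' N)) ∧
      (Cfsg.pCore p G).map (QuotientGroup.mk' N) ≠ ⊥ := by
  haveI := Fact.mk hp
  have hP := CfsgLib.Solvable.Cores.isPGroup_pCore (G := G) p
  refine ⟨⟨⟨⟨fun a b => ?_⟩⟩, ?_⟩, fun e => ?_⟩
  · obtain ⟨_, x, hx, rfl⟩ := a
    obtain ⟨_, y, hy, rfl⟩ := b
    refine Subtype.ext ?_
    show QuotientGroup.mk' N x * QuotientGroup.mk' N y = QuotientGroup.mk' N y * QuotientGroup.mk' N x
    rw [← commutatorElement_eq_one_iff_mul_comm, ← map_commutatorElement, QuotientGroup.mk'_apply,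
      QuotientGroup.eq_one_iff]
    exact hle ⟨_, CfsgLib.PGroup.Frattini.commutatorElement_mem_frattini hP ⟨x, hx⟩ ⟨y, hy⟩, rfl⟩
  · rintro _ ⟨x, hx, rfl⟩
    rw [← map_pow, QuotientGroup.mk'_apply, QuotientGroup.eq_one_iff]
    exact hle ⟨_, CfsgLib.PGroup.Frattini.pow_mem_frattini hP ⟨x, hx⟩, rfl⟩
  · rw [Subgroup.map_eq_bot_iff, QuotientGroup.ker_mk'] at e
    have hsub : Cfsg.pCore p G ≤ phiCore p G := (le_inf le_rfl e).trans hinf
    have htop : frattini (Cfsg.pCore p G) = ⊤ := by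
      refine eq_top_iff.2 fun z _ => ?_
      obtain ⟨w, hw, hwe⟩ := hsub z.2
      rwa [← (Subtype.ext hwe : w = z)]
    have hbt : (⊥ : Subgroup (Cfsg.pCore p G)) = ⊤ :=
      frattini_nongenerating (K := (⊥ : Subgroup (Cfsg.pCore p G))) (by rw [htop, sup_top_eq])
    refine hne ((eq_bot_iff_forall _).2 fun x hx => ?_)
    have : (⟨x, hx⟩ : Cfsg.pCore p G) ∈ (⊥ : Subgroup (Cfsg.pCore p G)) := hbt ▸ mem_top _
    exact congrArg Subtype.val (mem_bot.1 this)

theorem central_of_image {p : ℕ} {N : Subgroup G} [N.Normal]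
    (hinf : Cfsg.pCore p G ⊓ N ≤ phiCore p G) {m : G}
    (hc : ∀ v ∈ (Cfsg.pCore p G).map (QuotientGroup.mk' N), Commute (QuotientGroup.mk' N m) v)
    {y : G} (hy : y ∈ Cfsg.pCore p G) : (m * y * m⁻¹)⁻¹ * y ∈ phiCore p G := by
  haveI : (Cfsg.pCore p G).Normal := CfsgLib.Solvable.Cores.pCore_normal p
  refine hinf (mem_inf.2 ⟨mul_mem (inv_mem (Normal.conj_mem ‹_› y hy m)) hy, ?_⟩)
  rw [← QuotientGroup.eq]
  show QuotientGroup.mk' N (m * y * m⁻¹) = QuotientGroup.mk' N y
  rw [map_mul, map_mul, map_inv, (hc _ (mem_map_of_mem _ hy)).eq, mul_inv_cancel_right]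

namespace Four

variable {S : Finset ℕ} (h : Four G S)
include h

theorem false_of_image {X : Type*} [Group X] [Finite X] (f : G →* X) (hf : Function.Surjective f)
    {x y z : X} (hx : orderOf x ∈ S) (hy : orderOf y ∈ S) (hz : orderOf z ∈ S)
    (hxy : orderOf x ≠ orderOf y) (hyz : orderOf y ≠ orderOf z) (hxz : orderOf x ≠ orderOf z)
    (cxy : Commute x y) (cyz : Commute y z) (cxz : Commute x z) : False := by
  have hco : ∀ {a b : ℕ}, a ∈ S → b ∈ S → a ≠ b → a.Coprime b := fun ha hb hab =>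
    (Nat.coprime_primes (h.prime _ ha) (h.prime _ hb)).2 hab
  have h1 := cxy.orderOf_mul_eq_mul_orderOf_of_coprime (hco hx hy hxy)
  have h2 := (cxz.mul_left cyz).orderOf_mul_eq_mul_orderOf_of_coprime
    (h1.symm ▸ (hco hx hz hxz).mul_left (hco hy hz hyz))
  obtain ⟨g, hg⟩ := hf (x * y * z)
  have hd : orderOf (x * y * z) ∣ orderOf g := hg ▸ orderOf_map_dvd f g
  exact h.no3 _ hx _ hy _ hz hxy hyz hxz (g ^ (orderOf g / orderOf (x * y * z)))
    (by rw [orderOf_pow_orderOf_div (orderOf_pos g).ne' hd, h2, h1])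

theorem false_of_commuting {x y z : G} {a b c : ℕ} (ha : a ∈ S) (hb : b ∈ S) (hc : c ∈ S)
    (hab : a ≠ b) (hbc : b ≠ c) (hac : a ≠ c) (hx : orderOf x = a) (hy : orderOf y = b)
    (hz : orderOf z = c) (cxy : Commute x y) (cyz : Commute y z) (cxz : Commute x z) : False :=
  h.false_of_image (MonoidHom.id G) Function.surjective_id (hx.symm ▸ ha) (hy.symm ▸ hb)
    (hz.symm ▸ hc) (hx.symm ▸ hy.symm ▸ hab) (hy.symm ▸ hz.symm ▸ hbc) (hx.symm ▸ hz.symm ▸ hac)
    cxy cyz cxz

theorem exists_commuting {t u : ℕ} (ht : t ∈ S) (hu : u ∈ S) (htu : t ≠ u) :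
    ∃ x y : G, orderOf x = t ∧ orderOf y = u ∧ Commute x y := by
  obtain ⟨g, hg⟩ := h.pair t ht u hu htu
  haveI := Fact.mk (h.prime t ht)
  haveI := Fact.mk (h.prime u hu)
  obtain ⟨m, hm⟩ := exists_orderOf_pow (q := t) (hg ▸ dvd_mul_right t u) (isOfFinOrder_of_finite g)
  obtain ⟨n, hn⟩ := exists_orderOf_pow (q := u) (hg ▸ dvd_mul_left u t) (isOfFinOrder_of_finite g)
  exact ⟨_, _, hm, hn, Commute.pow_pow_self g m n⟩

theorem exists_order {t : ℕ} (ht : t ∈ S) : ∃ x : G, orderOf x = t := by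
  obtain ⟨u, hu, hne⟩ := Finset.exists_mem_ne (h.card_eq ▸ (by norm_num : 1 < 4)) t
  obtain ⟨x, -, hx, -⟩ := h.exists_commuting ht hu hne.symm
  exact ⟨x, hx⟩

theorem dvd_card {t : ℕ} (ht : t ∈ S) : t ∣ Nat.card G := by
  obtain ⟨x, hx⟩ := h.exists_order ht
  exact hx ▸ orderOf_dvd_natCard x

/-- An element of prime order does not commute with elements of all the three other orders. -/
theorem not_three {c : G} (hc : orderOf c ∈ S)
    (hall : ∀ u ∈ S, u ≠ orderOf c → ∃ y : G, orderOf y = u ∧ Commute c y) : False := by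
  haveI := h.solv
  set t := orderOf c with ht
  set Y := centralizer ({c} : Set G) with hY
  obtain ⟨U, hU⟩ := CfsgLib.Coprime.exists_hall (((S.erase t : Finset ℕ) : Set ℕ)) (G := Y)
    (Group.isSolvable_of_isSolvable_injective Y.subtype_injective)
  have hdvd : ∀ u ∈ S, u ≠ t → u ∣ Nat.card U := fun u hu hut => by
    obtain ⟨y, hy, hcy⟩ := hall u hu hut
    exact dvd_card_hall hU (h.prime u hu) (Finset.mem_erase.2 ⟨hut, hu⟩)
      (hy ▸ Subgroup.orderOf_dvd_natCard Y (mem_centralizer_singleton_iff.2 hcy.eq.symm))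
  have hUc : ∀ x ∈ U, Commute c x := fun x hx =>
    (mem_centralizer_singleton_iff.1 (hU.1 hx)).symm
  have hUne : (⊤ : Subgroup U) ≠ ⊥ := fun e => by
    obtain ⟨u, hu, hut⟩ := Finset.exists_mem_ne (h.card_eq ▸ (by norm_num : 1 < 4)) t
    haveI := Fact.mk (h.prime u hu)
    obtain ⟨x, hx⟩ := exists_prime_orderOf_dvd_card' (G := U) u (hdvd u hu hut)
    exact ne_one_of_orderOf (h.prime u hu) hx (mem_bot.1 (e ▸ mem_top x))
  obtain ⟨N, hN, hN0, -, hmin⟩ := CfsgLib.Solvable.Basic.exists_minimal_normal_le hUne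
  haveI := hN
  obtain ⟨hNc, w, hw, hwexp, hwp⟩ := CfsgLib.Solvable.Basic.minimal_normal_solvable N hN0 hmin
  haveI := Fact.mk hw
  set W := N.map U.subtype with hW
  have hWel : Cfsg.IsElementaryAbelian w W := by
    refine ⟨⟨⟨?_⟩⟩, ?_⟩
    · rintro ⟨_, a, ha, rfl⟩ ⟨_, b, hb, rfl⟩
      exact Subtype.ext (congrArg (fun z : U => (z : G))
        (congrArg Subtype.val (hNc.1.1 ⟨a, ha⟩ ⟨b, hb⟩)) :)
    · rintro _ ⟨a, ha, rfl⟩
      rw [← map_pow, hwexp a ha, map_one]
  have hW0 : W ≠ ⊥ := fun e => hN0 ((map_eq_bot_iff_of_injective N U.subtype_injective).1 e)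
  have hUW : U ≤ normalizer (W : Set G) := fun g hg => mem_normalizer_fintype fun x hx => by
    obtain ⟨a, ha, rfl⟩ := hx
    exact ⟨⟨g, hg⟩ * a * ⟨g, hg⟩⁻¹, hN.conj_mem a ha _, rfl⟩
  obtain ⟨v₀, hv₀, hv₀o⟩ := exists_orderOf_eq_of_ne_bot (isPGroup_of_elementary hWel) hW0
  have hwS : w ∈ S.erase t :=
    hU.2.1 w hw ((hv₀o ▸ Subgroup.orderOf_dvd_natCard W hv₀).trans
      (card_dvd_of_le (map_subtype_le N)))
  obtain ⟨u, u', huu, he⟩ := Finset.card_eq_two.1
    (show ((S.erase t).erase w).card = 2 by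
      rw [Finset.card_erase_of_mem hwS, Finset.card_erase_of_mem hc, h.card_eq])
  have hmem : ∀ x, x = u ∨ x = u' → x ∈ S ∧ x ≠ t ∧ x ≠ w := fun x hx => by
    have : x ∈ (S.erase t).erase w := by rw [he]; simpa using hx
    simp only [Finset.mem_erase] at this
    exact ⟨this.2.2, this.2.1, this.1⟩
  obtain ⟨huS, hut, huw⟩ := hmem u (Or.inl rfl)
  obtain ⟨huS', hut', huw'⟩ := hmem u' (Or.inr rfl)
  haveI := Fact.mk (h.prime u huS)
  haveI := Fact.mk (h.prime u' huS')
  by_cases hf : ∃ x ∈ U, (orderOf x = u ∨ orderOf x = u') ∧ Fixes W x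
  · obtain ⟨x, hx, hxo, v, hv, hv1, hxv⟩ := hf
    obtain ⟨hxS, hxt, hxw⟩ := hmem _ hxo
    exact h.false_of_commuting hc hxS (Finset.mem_of_mem_erase hwS) hxt.symm hxw
      (Finset.ne_of_mem_erase hwS).symm ht.symm rfl (orderOf_of_isElementaryAbelian hWel hv hv1)
      (hUc x hx) hxv (hUc v (map_subtype_le N hv))
  · push Not at hf
    obtain ⟨x, hx, y, hy, hxo, hyo, hxy⟩ := exists_edge_of_two huw huw' huu hWel hW0 hUW
      (hdvd u huS hut) (hdvd u' huS' hut') hf
    exact h.false_of_commuting hc huS huS' hut.symm huu hut'.symm ht.symm hxo hyo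
      (hUc x hx) hxy (hUc y hy)

/-- No Sylow subgroup has a unique subgroup of prime order. -/
theorem big {t : ℕ} (ht : t ∈ S) [Fact t.Prime] (P : Sylow t G) {c : G} (hcP : c ∈ P)
    (hco : orderOf c = t) :
    ∃ d ∈ P, orderOf d = t ∧ Commute c d ∧ d ∉ zpowers c := by
  have hPne : (P : Subgroup G) ≠ ⊥ := fun e =>
    ne_one_of_orderOf (h.prime t ht) hco (mem_bot.1 (e ▸ hcP))
  haveI : Nontrivial P := (nontrivial_iff_ne_bot _).2 hPne
  haveI := P.isPGroup'.center_nontrivial
  obtain ⟨z, ⟨z', hz', hzz⟩, hzo⟩ := exists_orderOf_eq_of_ne_bot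
    (((P.isPGroup').to_subgroup (center P)).map (P : Subgroup G).subtype)
    (fun e => (nontrivial_iff_ne_bot (center P)).1 inferInstance
      ((map_eq_bot_iff_of_injective _ (P : Subgroup G).subtype_injective).1 e))
  have hzP : z ∈ P := hzz ▸ z'.2
  have hzc : ∀ x ∈ P, Commute z x := fun x hx => hzz ▸
    (congrArg Subtype.val (mem_center_iff.1 hz' ⟨x, hx⟩)).symm
  by_cases hcz : c ∈ zpowers z
  swap
  · refine ⟨z, hzP, hzo, (hzc c hcP).symm, fun hzc' => hcz ?_⟩
    rw [zpowers_eq_of_mem (h.prime t ht) hco hzc' (ne_one_of_orderOf (h.prime t ht) hzo)]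
    exact mem_zpowers c
  by_contra hno
  push Not at hno
  have hall' : ∀ x ∈ P, orderOf x = t → c ∈ zpowers x := fun x hx hxo => by
    have hx' : x ∈ zpowers c := by
      obtain ⟨i, hi⟩ := mem_zpowers_iff.1 hcz
      exact hno x hx hxo (hi ▸ (hzc x hx).zpow_left i)
    rw [zpowers_eq_of_mem (h.prime t ht) hco hx' (ne_one_of_orderOf (h.prime t ht) hxo)]
    exact mem_zpowers c
  refine h.not_three (hco.symm ▸ ht) fun u hu hut => ?_
  rw [hco] at hut
  obtain ⟨x, y, hxo, hyo, hxy⟩ := h.exists_commuting ht hu hut.symm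
  obtain ⟨Q, hQ⟩ :=
    (IsPGroup.of_card (n := 1) (by rw [Nat.card_zpowers, hxo, pow_one]) :
      IsPGroup t (zpowers x)).exists_le_sylow
  obtain ⟨a, ha⟩ := MulAction.exists_smul_eq G Q P
  have hxP : a * x * a⁻¹ ∈ P := by
    rw [← ha]
    exact smul_mem_pointwise_smul x (MulAut.conj a) _ (hQ (mem_zpowers x))
  obtain ⟨i, hi⟩ := mem_zpowers_iff.1
    (hall' _ hxP (by rw [← MulAut.conj_apply, MulEquiv.orderOf_eq, hxo]))
  refine ⟨a * y * a⁻¹, by rw [← MulAut.conj_apply, MulEquiv.orderOf_eq, hyo], hi ▸ ?_⟩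
  exact (hxy.map (MulAut.conj a).toMonoidHom).zpow_left i

/-- The image of a Hall subgroup modulo a normal subgroup of coprime order. -/
theorem exists_image {R : Finset ℕ} (hR : R ⊆ S) (N : Subgroup G) [N.Normal]
    (hN : ∀ q : ℕ, q.Prime → q ∣ Nat.card N → q ∉ R) :
    ∃ K : Subgroup (G ⧸ N),
      (∀ q : ℕ, q.Prime → q ∣ Nat.card K → q ∈ R) ∧
      (∀ t ∈ R, ∀ u ∈ R, t ≠ u →
        ∃ x ∈ K, ∃ y ∈ K, orderOf x = t ∧ orderOf y = u ∧ Commute x y) ∧
      (∀ c ∈ K, orderOf c ∈ R →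
        ∃ d ∈ K, orderOf d = orderOf c ∧ Commute c d ∧ d ∉ zpowers c) ∧
      (∀ x ∈ K, x ≠ 1 → ∃ (m : G) (k : ℕ),
        orderOf m ∈ R ∧ QuotientGroup.mk' N m = x ^ k) := by
  haveI := h.solv
  obtain ⟨K₀, hK₀⟩ := CfsgLib.Coprime.exists_hall (R : Set ℕ) (G := (⊤ : Subgroup G))
    (Group.isSolvable_of_isSolvable_injective (subtype_injective ⊤))
  set π := QuotientGroup.mk' N with hπ
  have hker : ∀ x ∈ K₀, π x = 1 → x = 1 := fun x hx hx1 => by
    have hxN : x ∈ N := (QuotientGroup.eq_one_iff x).1 hx1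
    by_contra hne
    obtain ⟨q, hq, hqd⟩ := Nat.exists_prime_and_dvd (fun e => hne (orderOf_eq_one_iff.1 e))
    exact hN q hq (hqd.trans (Subgroup.orderOf_dvd_natCard N hxN))
      (hK₀.2.1 q hq (hqd.trans (Subgroup.orderOf_dvd_natCard K₀ hx)))
  have hord : ∀ x ∈ K₀, orderOf (π x) = orderOf x := fun x hx => by
    refine Nat.dvd_antisymm (orderOf_map_dvd π x) (orderOf_dvd_of_pow_eq_one (hker _ ?_ ?_))
    · exact pow_mem hx _
    · rw [map_pow, pow_orderOf_eq_one]
  refine ⟨K₀.map π, fun q hq hd => hK₀.2.1 q hq (hd.trans (card_map_dvd K₀ π)), ?_, ?_, ?_⟩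
  · intro t ht u hu htu
    obtain ⟨g, hg⟩ := h.pair t (hR ht) u (hR hu) htu
    have ht' := h.prime t (hR ht)
    have hu' := h.prime u (hR hu)
    obtain ⟨a, ha⟩ := exists_conj_mem_hall h.solv hK₀ (g := g) (fun q hq hd => by
      rw [hg] at hd
      rcases hq.dvd_mul.1 hd with e | e
      · exact (Nat.prime_dvd_prime_iff_eq hq ht').1 e ▸ ht
      · exact (Nat.prime_dvd_prime_iff_eq hq hu').1 e ▸ hu)
    have hgo : orderOf (a * g * a⁻¹) = t * u := by rw [← MulAut.conj_apply, MulEquiv.orderOf_eq, hg]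
    haveI := Fact.mk ht'
    haveI := Fact.mk hu'
    obtain ⟨m, hm⟩ := exists_orderOf_pow (q := t) (hgo ▸ dvd_mul_right t u)
      (isOfFinOrder_of_finite (a * g * a⁻¹))
    obtain ⟨n, hn⟩ := exists_orderOf_pow (q := u) (hgo ▸ dvd_mul_left u t)
      (isOfFinOrder_of_finite (a * g * a⁻¹))
    exact ⟨_, mem_map_of_mem π (pow_mem ha m), _, mem_map_of_mem π (pow_mem ha n),
      by rw [hord _ (pow_mem ha m), hm], by rw [hord _ (pow_mem ha n), hn],
      (Commute.pow_pow_self _ m n).map π⟩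
  · rintro _ ⟨c, hc, rfl⟩ hcR
    rw [hord c hc] at hcR ⊢
    haveI := Fact.mk (h.prime _ (hR hcR))
    obtain ⟨P₀, hP₀⟩ :=
      (IsPGroup.of_card (n := 1) (by rw [Nat.card_zpowers, orderOf_mk, pow_one]) :
        IsPGroup (orderOf c) (zpowers (⟨c, hc⟩ : K₀))).exists_le_sylow
    have hcard : Nat.card ((P₀ : Subgroup K₀).map K₀.subtype) =
        orderOf c ^ (Nat.card G).factorization (orderOf c) := by
      rw [card_map_of_injective K₀.subtype_injective, P₀.card_eq_multiplicity,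
        ← card_top (G := G), ← CfsgLib.Coprime.card_mul_relIndex_eq hK₀.1,
        Nat.factorization_mul Nat.card_pos.ne' (show K₀.relIndex ⊤ ≠ 0 by rw [relIndex_top_right]; exact index_ne_zero_of_finite), Finsupp.add_apply,
        Nat.factorization_eq_zero_of_not_dvd (hK₀.2.2 _ (h.prime _ (hR hcR)) hcR), add_zero]
    obtain ⟨d, hd, hdo, hcd, hdc⟩ := h.big (hR hcR) (Sylow.ofCard _ hcard)
      (c := c) (show c ∈ (P₀ : Subgroup K₀).map K₀.subtype from ⟨_, hP₀ (mem_zpowers _), rfl⟩) rfl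
    have hdK : d ∈ K₀ := map_subtype_le (P₀ : Subgroup K₀) hd
    refine ⟨π d, mem_map_of_mem π hdK, by rw [hord d hdK, hdo], hcd.map π, fun hmem => hdc ?_⟩
    obtain ⟨i, hi⟩ := mem_zpowers_iff.1 hmem
    have h1 : (c ^ i)⁻¹ * d = 1 := hker _ (mul_mem (inv_mem (zpow_mem hc i)) hdK)
      (by rw [map_mul, map_inv, map_zpow, hi, inv_mul_cancel])
    exact mem_zpowers_iff.2 ⟨i, inv_mul_eq_one.1 h1⟩
  · rintro _ ⟨x, hx, rfl⟩ hne
    have hx1 : x ≠ 1 := fun e => hne (by rw [e, map_one])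
    obtain ⟨q, hq, hqd⟩ := Nat.exists_prime_and_dvd (fun e => hx1 (orderOf_eq_one_iff.1 e))
    haveI := Fact.mk hq
    obtain ⟨k, hk⟩ := exists_orderOf_pow hqd (isOfFinOrder_of_finite x)
    exact ⟨x ^ k, k, hk.symm ▸ hK₀.2.1 q hq (hqd.trans (Subgroup.orderOf_dvd_natCard K₀ hx)),
      map_pow π x k⟩

/-- The primes of the non-trivial cores. -/
noncomputable def corePrimes (_h : Four G S) : Finset ℕ :=
  open Classical in S.filter fun t => Cfsg.pCore t G ≠ ⊥

theorem mem_corePrimes {t : ℕ} : t ∈ h.corePrimes ↔ t ∈ S ∧ Cfsg.pCore t G ≠ ⊥ := by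
  classical
  simp [corePrimes]

theorem mem_corePrimes_of_prime {t : ℕ} (ht : t.Prime) (hne : Cfsg.pCore t G ≠ ⊥) :
    t ∈ h.corePrimes := by
  haveI := Fact.mk ht
  obtain ⟨x, -, hx⟩ := exists_orderOf_eq_of_ne_bot (CfsgLib.Solvable.Cores.isPGroup_pCore t) hne
  exact h.mem_corePrimes.2 ⟨h.supp t ht (hx ▸ orderOf_dvd_natCard x), hne⟩

theorem one_core_false {p : ℕ} (hcp : h.corePrimes = {p}) : False := by
  haveI := h.solv
  obtain ⟨hpS, hne⟩ := h.mem_corePrimes.1 (by rw [hcp]; exact Finset.mem_singleton_self p)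
  have hp := h.prime p hpS
  haveI := phiCore_normal (G := G) p
  haveI : (Cfsg.pCore p G).Normal := CfsgLib.Solvable.Cores.pCore_normal p
  set N := phiCore p G with hNdef
  set π := QuotientGroup.mk' N with hπ
  obtain ⟨hel, hV⟩ := elementary_image hp hne N le_rfl inf_le_right
  set V := (Cfsg.pCore p G).map π with hVdef
  obtain ⟨K, hsupp, hedge, hbig, hlift⟩ := h.exists_image (S.erase_subset p) N
    (fun q hq hd => by
      rw [eq_of_dvd_card_pCore hp hq (phiCore_le p) hd]
      exact Finset.notMem_erase p S)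
  haveI : V.Normal := Normal.map inferInstance π (QuotientGroup.mk'_surjective N)
  have hS : Setting p V K (S.erase p) :=
    { hp := hp
      elem := hel
      ne := hV
      norm := le_normalizer_of_normal
      faithful := fun x hx hxV => by
        by_contra hx1
        obtain ⟨m, k, hm, hmk⟩ := hlift x hx hx1
        have hl := h.prime _ (Finset.mem_of_mem_erase hm)
        have hb := pCore_ne_bot_of_central hl rfl fun t ht htne _ y hy => by
          have htp : t = p := by simpa [hcp] using h.mem_corePrimes_of_prime ht htne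
          subst htp
          exact central_of_image inf_le_right (fun v hv => hmk ▸ (hxV v hv).pow_left k) hy
        exact Finset.ne_of_mem_erase hm (by simpa [hcp] using h.mem_corePrimes_of_prime hl hb)
      solv := Group.isSolvable_of_surjective (QuotientGroup.mk'_surjective N)
      prime := fun t ht => ⟨h.prime t (Finset.mem_of_mem_erase ht), Finset.ne_of_mem_erase ht⟩
      card_eq := by rw [Finset.card_erase_of_mem hpS, h.card_eq]
      supp := hsupp
      free := fun x _ y _ hx hy hxy cxy v hv cxv cyv => by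
        by_contra hv1
        haveI := Fact.mk hp
        have hvo := orderOf_of_isElementaryAbelian hel hv hv1
        exact h.false_of_image π (QuotientGroup.mk'_surjective N) (Finset.mem_of_mem_erase hx)
          (Finset.mem_of_mem_erase hy) (hvo.symm ▸ hpS) hxy
          (hvo.symm ▸ Finset.ne_of_mem_erase hy) (hvo.symm ▸ Finset.ne_of_mem_erase hx) cxy cyv cxv
      edge := hedge
      no3 := fun x _ y _ z _ hx hy hz hxy hyz hxz cxy cyz cxz =>
        h.false_of_image π (QuotientGroup.mk'_surjective N) (Finset.mem_of_mem_erase hx)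
          (Finset.mem_of_mem_erase hy) (Finset.mem_of_mem_erase hz) hxy hyz hxz cxy cyz cxz
      big := hbig }
  exact hS.not_exists

theorem two_cores_false {p q : ℕ} (hpq : p ≠ q) (hcp : h.corePrimes = {p, q}) : False := by
  haveI := h.solv
  obtain ⟨hpS, hPne⟩ := h.mem_corePrimes.1 (by rw [hcp]; simp : p ∈ h.corePrimes)
  obtain ⟨hqS, hQne⟩ := h.mem_corePrimes.1 (by rw [hcp]; simp : q ∈ h.corePrimes)
  have hp := h.prime p hpS
  have hq := h.prime q hqS
  haveI := Fact.mk hp
  haveI := Fact.mk hq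
  haveI := phiCore_normal (G := G) p
  haveI := phiCore_normal (G := G) q
  haveI : (Cfsg.pCore p G).Normal := CfsgLib.Solvable.Cores.pCore_normal p
  haveI : (Cfsg.pCore q G).Normal := CfsgLib.Solvable.Cores.pCore_normal q
  set N := phiCore p G ⊔ phiCore q G with hNdef
  set π := QuotientGroup.mk' N with hπ
  have hdisj : ∀ z : G, z ∈ Cfsg.pCore p G → z ∈ Cfsg.pCore q G → z = 1 := fun z h1 h2 =>
    disjoint_def.1 ((CfsgLib.Solvable.Cores.isPGroup_pCore p).disjoint_of_ne p q hpq _ _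
      (CfsgLib.Solvable.Cores.isPGroup_pCore q)) h1 h2
  have hinfp : Cfsg.pCore p G ⊓ N ≤ phiCore p G := fun z hz => by
    obtain ⟨a, ha, b, hb, rfl⟩ := mem_sup_of_normal_left.1 hz.2
    have hb1 : b = 1 := hdisj b ((mul_mem_cancel_left (phiCore_le p ha)).1 hz.1) (phiCore_le q hb)
    rw [hb1, mul_one]
    exact ha
  have hinfq : Cfsg.pCore q G ⊓ N ≤ phiCore q G := fun z hz => by
    obtain ⟨a, ha, b, hb, rfl⟩ := mem_sup_of_normal_left.1 hz.2
    have ha1 : a = 1 := hdisj a (phiCore_le p ha) ((mul_mem_cancel_right (phiCore_le q hb)).1 hz.1)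
    rw [ha1, one_mul]
    exact hb
  obtain ⟨helV, hV⟩ := elementary_image hp hPne N le_sup_left hinfp
  obtain ⟨helW, hW⟩ := elementary_image hq hQne N le_sup_right hinfq
  set V := (Cfsg.pCore p G).map π with hVdef
  set W := (Cfsg.pCore q G).map π with hWdef
  obtain ⟨r, s, hrs, he⟩ := Finset.card_eq_two.1
    (show ((S.erase p).erase q).card = 2 by
      rw [Finset.card_erase_of_mem (Finset.mem_erase.2 ⟨hpq.symm, hqS⟩),
        Finset.card_erase_of_mem hpS, h.card_eq])
  have hmem : ∀ x, x = r ∨ x = s → x ∈ S ∧ x ≠ p ∧ x ≠ q := fun x hx => by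
    have : x ∈ (S.erase p).erase q := by rw [he]; simpa using hx
    simp only [Finset.mem_erase] at this
    exact ⟨this.2.2, this.2.1, this.1⟩
  obtain ⟨hrS, hrp, hrq⟩ := hmem r (Or.inl rfl)
  obtain ⟨hsS, hsp, hsq⟩ := hmem s (Or.inr rfl)
  obtain ⟨L, hsupp, hedge, hbig, hlift⟩ := h.exists_image (R := {r, s})
    (by intro x hx; exact (hmem x (by simpa using hx)).1) N (fun l hl hd hlR => by
      obtain ⟨-, hlp, hlq⟩ := hmem l (by simpa using hlR)
      rw [hNdef, CfsgLib.Coprime.card_sup_of_le_normalizer (le_normalizer_of_normal (H := phiCore p G))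
        (disjoint_def.2 fun {z} h1 h2 => hdisj z (phiCore_le p h1) (phiCore_le q h2))] at hd
      rcases hl.dvd_mul.1 hd with e | e
      · exact hlp (eq_of_dvd_card_pCore hp hl (phiCore_le p) e)
      · exact hlq (eq_of_dvd_card_pCore hq hl (phiCore_le q) e))
  haveI : V.Normal := Normal.map inferInstance π (QuotientGroup.mk'_surjective N)
  haveI : W.Normal := Normal.map inferInstance π (QuotientGroup.mk'_surjective N)
  have hVW : ∀ v ∈ V, ∀ w ∈ W, Commute v w := by
    rintro _ ⟨v, hv, rfl⟩ _ ⟨w, hw, rfl⟩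
    exact (commute_of_cores hp hq hpq hv hw).map π
  have hrR : r ∈ ({r, s} : Finset ℕ) := by simp
  have hsR : s ∈ ({r, s} : Finset ℕ) := by simp
  have hbig' : ∀ t ∈ ({r, s} : Finset ℕ), ∀ c ∈ L, orderOf c = t →
      ∃ d ∈ L, orderOf d = t ∧ Commute c d ∧ d ∉ zpowers c := fun t ht c hc hco => by
    subst hco
    exact hbig c hc ht
  obtain ⟨xr, hxr, xs, hxs, hxro, hxso, -⟩ := hedge r hrR s hsR hrs
  have hT : TwoSetting p q V W L r s :=
    { solv := Group.isSolvable_of_surjective (QuotientGroup.mk'_surjective N)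
      hp := hp
      hq := hq
      hr := h.prime r hrS
      hs := h.prime s hsS
      hrs := hrs
      hrp := hrp
      hsp := hsp
      hrq := hrq
      hsq := hsq
      elemV := helV
      elemW := helW
      neV := hV
      neW := hW
      normV := le_normalizer_of_normal
      normW := le_normalizer_of_normal
      supp := fun t ht hd => by simpa using hsupp t ht hd
      faithful := fun x hx hxV hxW => by
        by_contra hx1
        obtain ⟨m, k, hm, hmk⟩ := hlift x hx hx1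
        obtain ⟨hmS, hmp, hmq⟩ := hmem _ (by simpa using hm)
        have hl := h.prime _ hmS
        have hb := pCore_ne_bot_of_central hl rfl fun t ht htne _ y hy => by
          have htc := h.mem_corePrimes_of_prime ht htne
          rw [hcp] at htc
          simp only [Finset.mem_insert, Finset.mem_singleton] at htc
          rcases htc with rfl | rfl
          · exact central_of_image hinfp (fun v hv => hmk ▸
              (show Commute x v from (mem_centralizer_iff.1 hxV v hv).symm).pow_left k) hy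
          · exact central_of_image hinfq (fun v hv => hmk ▸
              (show Commute x v from (mem_centralizer_iff.1 hxW v hv).symm).pow_left k) hy
        have := h.mem_corePrimes_of_prime hl hb
        rw [hcp] at this
        simp [hmp, hmq] at this
      single := fun x _ hxo ⟨v, hv, hv1, cxv⟩ ⟨w, hw, hw1, cxw⟩ => by
        obtain ⟨hxS, hxp, hxq⟩ := hmem _ hxo
        have hvo := orderOf_of_isElementaryAbelian helV hv hv1
        have hwo := orderOf_of_isElementaryAbelian helW hw hw1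
        exact h.false_of_image π (QuotientGroup.mk'_surjective N) hxS (hvo.symm ▸ hpS)
          (hwo.symm ▸ hqS) (hvo.symm ▸ hxp) (hvo.symm ▸ hwo.symm ▸ hpq) (hwo.symm ▸ hxq) cxv
          (hVW v hv w hw) cxw
      freeV := fun x _ y _ hxo hyo cxy v hv cxv cyv => by
        by_contra hv1
        have hvo := orderOf_of_isElementaryAbelian helV hv hv1
        exact h.false_of_image π (QuotientGroup.mk'_surjective N) (hxo.symm ▸ hrS) (hyo.symm ▸ hsS)
          (hvo.symm ▸ hpS) (by rw [hxo, hyo]; exact hrs) (by rw [hyo, hvo]; exact hsp)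
          (by rw [hxo, hvo]; exact hrp) cxy cyv cxv
      freeW := fun x _ y _ hxo hyo cxy v hv cxv cyv => by
        by_contra hv1
        have hvo := orderOf_of_isElementaryAbelian helW hv hv1
        exact h.false_of_image π (QuotientGroup.mk'_surjective N) (hxo.symm ▸ hrS) (hyo.symm ▸ hsS)
          (hvo.symm ▸ hqS) (by rw [hxo, hyo]; exact hrs) (by rw [hyo, hvo]; exact hsq)
          (by rw [hxo, hvo]; exact hrq) cxy cyv cxv
      pairR := by
        obtain ⟨d, hd, hdo, hcd, hdn⟩ := hbig' r hrR xr hxr hxro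
        exact ⟨xr, hxr, d, hd, hxro, hdo, hcd, hdn⟩
      bigS := hbig' s hsR
      pairS := by
        obtain ⟨d, hd, hdo, hcd, hdn⟩ := hbig' s hsR xs hxs hxso
        exact ⟨xs, hxs, d, hd, hxso, hdo, hcd, hdn⟩
      bigR := hbig' r hrR }
  exact hT.not_exists

theorem not_exists : False := by
  haveI := h.solv
  have hne : h.corePrimes.Nonempty := by
    obtain ⟨t, ht⟩ := Finset.card_pos.1 (by rw [h.card_eq]; norm_num : 0 < S.card)
    obtain ⟨x, hx⟩ := h.exists_order ht
    by_contra hemp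
    refine hemp ⟨t, h.mem_corePrimes_of_prime (h.prime t ht)
      (pCore_ne_bot_of_central (h.prime t ht) hx fun u hu hune _ => ?_)⟩
    exact absurd ⟨u, h.mem_corePrimes_of_prime hu hune⟩ hemp
  by_cases h3 : 2 < h.corePrimes.card
  · obtain ⟨a, b, c, ha, hb, hc, hab, hac, hbc⟩ := Finset.two_lt_card_iff.1 h3
    obtain ⟨haS, ha'⟩ := h.mem_corePrimes.1 ha
    obtain ⟨hbS, hb'⟩ := h.mem_corePrimes.1 hb
    obtain ⟨hcS, hc'⟩ := h.mem_corePrimes.1 hc
    haveI := Fact.mk (h.prime a haS)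
    haveI := Fact.mk (h.prime b hbS)
    haveI := Fact.mk (h.prime c hcS)
    obtain ⟨x, hx, hxo⟩ := exists_orderOf_eq_of_ne_bot (CfsgLib.Solvable.Cores.isPGroup_pCore a) ha'
    obtain ⟨y, hy, hyo⟩ := exists_orderOf_eq_of_ne_bot (CfsgLib.Solvable.Cores.isPGroup_pCore b) hb'
    obtain ⟨z, hz, hzo⟩ := exists_orderOf_eq_of_ne_bot (CfsgLib.Solvable.Cores.isPGroup_pCore c) hc'
    exact h.false_of_commuting haS hbS hcS hab hbc hac hxo hyo hzo
      (commute_of_cores (h.prime a haS) (h.prime b hbS) hab hx hy)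
      (commute_of_cores (h.prime b hbS) (h.prime c hcS) hbc hy hz)
      (commute_of_cores (h.prime a haS) (h.prime c hcS) hac hx hz)
  obtain h1 | h2 : h.corePrimes.card = 1 ∨ h.corePrimes.card = 2 := by
    have := hne.card_pos; omega
  · obtain ⟨p, hp⟩ := Finset.card_eq_one.1 h1
    exact h.one_core_false hp
  · obtain ⟨p, q, hpq, hp⟩ := Finset.card_eq_two.1 h2
    exact h.two_cores_false hpq hp

end Four

/-- A finite solvable group does not have four primes pairwise but not triply joined. -/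
theorem not_isSolvable_of_pairwise_not_triply (σ : Finset ℕ) (hσ : 4 ≤ σ.card)
    (hprime : ∀ p ∈ σ, p.Prime)
    (h2 : ∀ p ∈ σ, ∀ q ∈ σ, p ≠ q → ∃ g : G, orderOf g = p * q)
    (h3 : ∀ p ∈ σ, ∀ q ∈ σ, ∀ r ∈ σ, p ≠ q → q ≠ r → p ≠ r → ∀ g : G, orderOf g ≠ p * q * r) :
    ¬ Group.IsSolvable G := by
  intro hG
  obtain ⟨S, hS, hcard⟩ := Finset.exists_subset_card_eq hσ
  obtain ⟨H, hH⟩ := CfsgLib.Coprime.exists_hall (S : Set ℕ) (G := (⊤ : Subgroup G))
    (Group.isSolvable_of_isSolvable_injective (subtype_injective ⊤))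
  have h4 : Four H S :=
    { solv := Group.isSolvable_of_isSolvable_injective H.subtype_injective
      prime := fun t ht => hprime t (hS ht)
      card_eq := hcard
      supp := hH.2.1
      pair := fun t ht u hu htu => by
        obtain ⟨g, hg⟩ := h2 t (hS ht) u (hS hu) htu
        obtain ⟨a, ha⟩ := exists_conj_mem_hall hG hH (g := g) (fun q hq hd => by
          rw [hg] at hd
          rcases hq.dvd_mul.1 hd with e | e
          · exact (Nat.prime_dvd_prime_iff_eq hq (hprime t (hS ht))).1 e ▸ ht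
          · exact (Nat.prime_dvd_prime_iff_eq hq (hprime u (hS hu))).1 e ▸ hu)
        exact ⟨⟨_, ha⟩, by rw [Subgroup.orderOf_mk, ← MulAut.conj_apply, MulEquiv.orderOf_eq, hg]⟩
      no3 := fun a ha b hb c hc hab hbc hac g hg => h3 a (hS ha) b (hS hb) c (hS hc) hab hbc hac g
        (by rw [orderOf_coe, hg]) }
  exact h4.not_exists

end CfsgLib.Solvable.ThreePrimeOrders
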