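import Cfsg.Agent.Lib.Solvable.ThreePrimeOrders.Setting

/-!
# No non-cyclic elementary abelian normal subgroup
-/

set_option autoImplicit false
set_option linter.style.haveILetI false

namespace CfsgLib.Solvable.ThreePrimeOrders.Setting

open Subgroup
open scoped commutatorElement

variable {G : Type*} [Group G] [Finite G] {p : ℕ} {V K : Subgroup G} {S : Finset ℕ}
variable (h : Setting p V K S)
include h

omit [Finite G] in
theorem conj_comm_mem {E : Subgroup G} {g x : G} (hg : g ∈ normalizer (E : Set G))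
    (hx : ∀ e ∈ E, Commute x e) : ∀ e ∈ E, Commute (g * x * g⁻¹) e := by
  intro e he
  have h1 : g⁻¹ * e * g ∈ E := by
    simpa using (mem_normalizer_iff.1 (inv_mem hg) e).1 he
  show g * x * g⁻¹ * e = e * (g * x * g⁻¹)
  calc g * x * g⁻¹ * e = g * (x * (g⁻¹ * e * g)) * g⁻¹ := by group
    _ = g * ((g⁻¹ * e * g) * x) * g⁻¹ := by rw [(hx _ h1).eq]
    _ = _ := by group

/-- The labelled case. -/
theorem noncyclic_aux {q : ℕ} (hq : q ∈ S) {E : Subgroup G} (hEK : E ≤ K)
    (hE : Cfsg.IsElementaryAbelian q E) (hnc : ¬ IsCyclic E) (hEn : K ≤ normalizer (E : Set G))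
    {b c : G} (hb : b ∈ K) (hbS : orderOf b ∈ S) (hbq : orderOf b ≠ q) (hc : c ∈ K)
    (hcS : orderOf c ∈ S) (hcq : orderOf c ≠ q) (hne : orderOf b ≠ orderOf c) (hbc : Commute b c)
    (hfb : ¬ Fixes V b) (hfc : Fixes V c) : False := by
  set r := orderOf b with hr
  set s := orderOf c with hs
  haveI := Fact.mk (h.prime q hq).1
  haveI := Fact.mk (h.prime r hbS).1
  haveI := Fact.mk (h.prime s hcS).1
  haveI := h.solv
  have hEp := isPGroup_of_elementary hE
  have hcases : ∀ t ∈ S, t = q ∨ t = r ∨ t = s :=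
    fun t ht => h.mem_cases hq hbS hcS hbq.symm hne hcq.symm ht
  obtain ⟨e₁, he₁, e₂, he₂, he₁o, he₂o, he12, hen⟩ := exists_pair hE hnc
  -- an element of `E` with fixed points
  obtain ⟨a, ha, ha1, hfa⟩ := exists_fixes_of_noncyclic hE hnc (hEK.trans h.norm) h.ne
    (h.not_dvd_card hq)
  have hao := orderOf_of_isElementaryAbelian hE ha ha1
  have hcent : ∀ y ∈ K, orderOf y ∈ S → orderOf y ≠ q → ¬ Fixes V y → ∀ e ∈ E, Commute y e :=
    fun y hy hyS hyq hf e he =>
      h.commute_of_fpf hq hEK hE.1 hEp hy hyS hyq hf (hEn hy) he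
  have hfixE : ∀ x ∈ K, orderOf x ∈ S → orderOf x ≠ q → (∀ e ∈ E, Commute x e) → ¬ Fixes V x := by
    intro x hx hxS hxq hxE hf
    exact h.one_rank hx hxS hf (hEK he₁) (he₁o.symm ▸ hq) (he₁o.symm ▸ hxq.symm) (hxE e₁ he₁)
      (hEK he₂) (by rw [he₁o, he₂o]) (hxE e₂ he₂) he12 hen
  have hbE := hcent b hb hbS hbq hfb
  -- no element of the second order centralises `E`
  have hCs : ∀ x ∈ K, orderOf x = s → (∀ e ∈ E, Commute x e) → False := by
    intro x hx hxo hxE
    exact h.one_prime (hEK ha) (hao.symm ▸ hq) hfa hb hbS (hao.symm ▸ hbq) (hbE a ha).symm hx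
      (hxo.symm ▸ hcS) (by rw [hao, hxo]; exact hcq) (hxE a ha).symm (by rw [hxo]; exact hne)
  -- elements of the first order centralising `E` have rank one
  have hCr : ∀ x ∈ K, ∀ y ∈ K, orderOf x = r → orderOf y = r → Commute x y →
      (∀ e ∈ E, Commute x e) → (∀ e ∈ E, Commute y e) → y ∈ zpowers x := by
    intro x hx y hy hxo hyo hxy hxE hyE
    by_contra hny
    obtain ⟨A, hA, hAnc, -, -, hAle⟩ := pair_elementary hxo hyo hxy hny
    have hAK := h.pair_le hx hy hAle
    obtain ⟨z, hz, hz1, hfz⟩ := exists_fixes_of_noncyclic hA hAnc (hAK.trans h.norm) h.ne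
      (h.not_dvd_card hbS)
    have hzo := orderOf_of_isElementaryAbelian hA hz hz1
    refine hfixE z (hAK hz) (hzo.symm ▸ hbS) (hzo.symm ▸ hbq) (fun e he => ?_) hfz
    obtain ⟨i, j, rfl⟩ := exists_zpow_mul_of_mem_closure hxy (hAle hz)
    exact ((hxE e he).zpow_left i).mul_left ((hyE e he).zpow_left j)
  -- the commutant of `b` has rank one at `s`
  have hrankS : ∀ x ∈ K, ∀ y ∈ K, orderOf x = s → orderOf y = s → Commute x y → Commute b x →
      Commute b y → y ∈ zpowers x := by
    intro x hx y hy hxo hyo hxy hbx hby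
    by_contra hny
    obtain ⟨A, hA, hAnc, -, -, hAle⟩ := pair_elementary hxo hyo hxy hny
    have hAK := h.pair_le hx hy hAle
    obtain ⟨z, hz, hz1, e, he, he1, hze⟩ := exists_fixes_of_noncyclic hA hAnc (hAK.trans hEn)
      (fun e0 => hnc (by subst E; infer_instance))
      (fun hd => by
        obtain ⟨n, hn⟩ := hEp.exists_card_eq
        exact hcq ((Nat.prime_dvd_prime_iff_eq Fact.out Fact.out).1
          ((Fact.out : s.Prime).dvd_of_dvd_pow (hn ▸ hd))))
    have hzo := orderOf_of_isElementaryAbelian hA hz hz1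
    have heo := orderOf_of_isElementaryAbelian hE he he1
    obtain ⟨i, j, hij⟩ := exists_zpow_mul_of_mem_closure hxy (hAle hz)
    exact h.no3 b hb z (hAK hz) e (hEK he) hbS (hzo.symm ▸ hcS) (heo.symm ▸ hq)
      (hzo.symm ▸ hne) (by rw [hzo, heo]; exact hcq) (heo.symm ▸ hbq)
      (hij ▸ (hbx.zpow_right i).mul_right (hby.zpow_right j)) hze (hbE e he)
  -- the centraliser of `c` normalises the subgroup generated by `b`
  set M := K ⊓ centralizer (E : Set G) ⊓ centralizer ({c} : Set G) with hM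
  have hMc : ∀ x ∈ M, x ∈ K ∧ (∀ e ∈ E, Commute x e) ∧ Commute x c := fun x hx =>
    ⟨hx.1.1, fun e he => (mem_centralizer_iff.1 hx.1.2 e he).symm,
      mem_centralizer_singleton_iff.1 hx.2⟩
  have hMmem : ∀ x ∈ K, (∀ e ∈ E, Commute x e) → Commute x c → x ∈ M := fun x h1 h2 h3 =>
    ⟨⟨h1, mem_centralizer_iff.2 fun e he => (h2 e he).eq.symm⟩, mem_centralizer_singleton_iff.2 h3⟩
  have hbM : b ∈ M := hMmem b hb hbE hbc
  have hMr : IsPGroup r M := by
    refine IsPGroup.of_card (Nat.eq_prime_pow_of_unique_prime_dvd Nat.card_pos.ne' fun {t} ht htd => ?_)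
    haveI := Fact.mk ht
    obtain ⟨x₀, hx₀⟩ := exists_prime_orderOf_dvd_card' (G := M) t htd
    obtain ⟨hxK, hxE, hxc⟩ := hMc x₀ x₀.2
    have hxo : orderOf (x₀ : G) = t := by rw [orderOf_coe, hx₀]
    have htS := h.supp t ht (htd.trans (card_dvd_of_le (inf_le_left.trans inf_le_left)))
    rcases hcases t htS with e | e | e
    · exact (h.one_prime hc hcS hfc hb hbS hne hbc.symm hxK (hxo.symm ▸ htS)
        (by rw [hxo, e]; exact hcq.symm) hxc.symm (by rw [hxo, e]; exact hbq)).elim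
    · exact e
    · exact (hCs x₀ hxK (hxo.trans e) hxE).elim
  have hMone : ∀ x ∈ M, ∀ y ∈ M, orderOf x = r → orderOf y = r → Commute x y → y ∈ zpowers x :=
    fun x hx y hy hxo hyo hxy =>
      hCr x (hMc x hx).1 y (hMc y hy).1 hxo hyo hxy (hMc x hx).2.1 (hMc y hy).2.1
  obtain ⟨d, hd, hdo, hcd, hdc⟩ := h.big c hc hcS
  have hdb : ¬ Commute d b := fun hdb => hdc (hrankS c hc d hd rfl hdo hcd hbc hdb.symm)
  have hdmem : d * b * d⁻¹ ∈ zpowers b := by
    refine mem_zpowers_of_rankOne hMr hMone hbM (hMmem _ (mul_mem (mul_mem hd hb) (inv_mem hd))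
      (h.conj_comm_mem (hEn hd) hbE) ?_) rfl
      (by rw [← MulAut.conj_apply, MulEquiv.orderOf_eq])
    show d * b * d⁻¹ * c = c * (d * b * d⁻¹)
    calc d * b * d⁻¹ * c = d * b * (d⁻¹ * c) := by group
      _ = d * (b * c) * d⁻¹ := by rw [hcd.inv_right.eq.symm]; group
      _ = d * c * b * d⁻¹ := by rw [hbc.eq]; group
      _ = c * (d * b * d⁻¹) := by rw [hcd.eq.symm]; group
  have hsr : s ∣ r - 1 := dvd_sub_one_of_moves rfl hdo hdmem hdb
  have hlt : s < r := by
    have := Nat.le_of_dvd (by have := (h.prime r hbS).1.two_le; omega) hsr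
    omega
  have hr2 : r ≠ 2 := by have := (h.prime s hcS).1.two_le; omega
  -- a second subgroup of order `r`
  obtain ⟨b', hb', hb'o, hbb', hb'n⟩ := h.big b hb hbS
  have hb'E : ¬ ∀ e ∈ E, Commute b' e := fun hh => hb'n (hCr b hb b' hb' rfl hb'o hbb' hbE hh)
  obtain ⟨A, hA, -, hAb, hAb', hAle⟩ := pair_elementary rfl hb'o hbb' hb'n
  set C₀ := K ⊓ centralizer ({b} : Set G) with hC₀
  have hAC : A ≤ C₀ := hAle.trans ((closure_le _).2 (by
    rintro z (rfl | rfl)
    · exact ⟨hb, mem_centralizer_singleton_iff.2 rfl⟩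
    · exact ⟨hb', mem_centralizer_singleton_iff.2 hbb'.eq.symm⟩))
  obtain ⟨L, ⟨hLC, hLpi, hLidx⟩, hAL⟩ := CfsgLib.Coprime.exists_hall_ge ({r, s} : Set ℕ)
    (Group.isSolvable_of_isSolvable_injective C₀.subtype_injective) hAC fun t ht htd => by
      obtain ⟨n, hn⟩ := (isPGroup_of_elementary hA).exists_card_eq
      exact Or.inl ((Nat.prime_dvd_prime_iff_eq ht Fact.out).1 (ht.dvd_of_dvd_pow (hn ▸ htd)))
  have hLK : L ≤ K := hLC.trans inf_le_left
  have hLb : ∀ x ∈ L, Commute b x := fun x hx =>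
    (mem_centralizer_singleton_iff.1 (hLC hx).2).symm
  have hsL : s ∣ Nat.card L := by
    have h1 : s ∣ Nat.card C₀ := Subgroup.orderOf_dvd_natCard C₀
      (⟨hc, mem_centralizer_singleton_iff.2 hbc.eq.symm⟩ : c ∈ C₀)
    rw [← relIndex_bot_left, ← relIndex_mul_relIndex ⊥ L C₀ bot_le hLC, relIndex_bot_left] at h1
    exact ((h.prime s hcS).1.dvd_mul.1 h1).resolve_right (hLidx s Fact.out (Or.inr rfl))
  by_cases hOs : core s L = ⊥
  · obtain ⟨c₀', hc₀'⟩ := exists_prime_orderOf_dvd_card' (G := L) s hsL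
    set c₀ : G := (c₀' : G)
    have hc₀o : orderOf c₀ = s := by rw [orderOf_coe, hc₀']
    have hc₀b := hLb c₀ c₀'.2
    have hc₀f : ¬ Fixes E c₀ := fun ⟨e, he, he1, hce⟩ =>
      h.no3 b hb c₀ (hLK c₀'.2) e (hEK he) hbS (hc₀o.symm ▸ hcS)
        ((orderOf_of_isElementaryAbelian hE he he1).symm ▸ hq) (hc₀o.symm ▸ hne)
        (by rw [hc₀o, orderOf_of_isElementaryAbelian hE he he1]; exact hcq)
        ((orderOf_of_isElementaryAbelian hE he he1).symm ▸ hbq) hc₀b hce (hbE e he)
    have hall : ∀ t : ℕ, t.Prime → ∀ g ∈ core t L, Commute c₀ g := by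
      intro t ht g hg
      haveI := Fact.mk ht
      by_cases hg1 : g = 1
      · rw [hg1]; exact Commute.one_right _
      have htne : core t L ≠ ⊥ := fun e => hg1 (by rw [e, mem_bot] at hg; exact hg)
      rcases hLpi t ht ((dvd_card_of_core_ne_bot htne).trans (card_dvd_of_le (core_le t L))) with
        htr | hts
      · replace htr : t = r := htr
        subst htr
        set D := core r L ⊓ centralizer (E : Set G) with hD
        set u := g⁻¹ * (c₀ * g * c₀⁻¹) with hu
        have hu1 : u ∈ core r L :=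
          mul_mem (inv_mem hg) (conj_mem_core c₀'.2 hg)
        have huD : u ∈ D := ⟨hu1, comm_mem_of_odd hE (isPGroup_core r L) hr2 hbq.symm hcq.symm hne
          hc₀o (((core_le r L).trans hLK).trans hEn) (hEn (hLK c₀'.2))
          (le_normalizer_core r L c₀'.2) hc₀f hg⟩
        have hDL : ∀ x ∈ D, x ∈ L := fun x hx => core_le r L hx.1
        have hDE : ∀ x ∈ D, ∀ e ∈ E, Commute x e := fun x hx e he =>
          (mem_centralizer_iff.1 hx.2 e he).symm
        have hDc : IsCyclic D := isCyclic_of_rankOne ((isPGroup_core r L).to_le inf_le_left) hr2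
          fun x hx y hy hxo hyo hxy => hCr x (hLK (hDL x hx)) y (hLK (hDL y hy)) hxo hyo hxy
            (hDE x hx) (hDE y hy)
        have huc : Commute c₀ u := by
          by_cases hu0 : u = 1
          · rw [hu0]; exact Commute.one_right _
          obtain ⟨m, hm⟩ := exists_orderOf_pow
            (orderOf_dvd_of_isPGroup ((isPGroup_core r L).to_le inf_le_left) huD hu0)
            (isOfFinOrder_of_finite u)
          have haD : u ^ m ∈ D := pow_mem huD m
          refine commute_of_cyclic hne ((isPGroup_core r L).to_le inf_le_left) hDc hc₀o ?_ haD hm ?_ u huD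
          · refine mem_normalizer_fintype fun x hx => ⟨conj_mem_core c₀'.2 hx.1, ?_⟩
            exact mem_centralizer_iff.2 fun e he =>
              (h.conj_comm_mem (hEn (hLK c₀'.2)) (hDE x hx) e he).eq.symm
          · obtain ⟨i, hi⟩ := mem_zpowers_iff.1 (hCr b hb (u ^ m) (hLK (hDL _ haD)) rfl hm
              (hLb _ (hDL _ haD)) hbE (hDE _ haD))
            rw [← hi]
            exact (hc₀b.symm).zpow_right i
        refine commute_of_commutator_fixed (z := u) (t := s) (by rw [← hc₀o, pow_orderOf_eq_one]) ?_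
          (by rw [hu]; group) huc.symm
        obtain ⟨k, hk⟩ := IsPGroup.iff_orderOf.1 (isPGroup_core r L) ⟨u, hu1⟩
        rw [Subgroup.orderOf_mk] at hk
        rw [hk]
        exact ((Nat.coprime_primes Fact.out Fact.out).2 hne).pow_left k
      · replace hts : t = s := hts
        subst hts
        exact absurd hOs htne
    have := mem_core_of_commute c₀'.2 hc₀o hall
    rw [hOs, mem_bot] at this
    exact ne_one_of_orderOf (Fact.out : s.Prime) hc₀o this
  · obtain ⟨c₀, hc₀, hc₀o⟩ := exists_orderOf_eq_of_ne_bot (isPGroup_core s L) hOs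
    have hb'L : b' ∈ L := hAL hAb'
    have hmem : b' * c₀ * b'⁻¹ ∈ zpowers c₀ := mem_zpowers_of_rankOne (isPGroup_core s L)
      (fun x hx y hy hxo hyo hxy => hrankS x (hLK (core_le s L hx)) y (hLK (core_le s L hy)) hxo
        hyo hxy (hLb x (core_le s L hx)) (hLb y (core_le s L hy)))
      hc₀ (conj_mem_core hb'L hc₀) hc₀o (by rw [← MulAut.conj_apply, MulEquiv.orderOf_eq, hc₀o])
    have hcomm : Commute b' c₀ := by
      by_contra hnc'
      have := Nat.le_of_dvd (by have := (h.prime s hcS).1.two_le; omega)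
        (dvd_sub_one_of_moves hc₀o hb'o hmem hnc')
      omega
    have hc₀K := hLK (core_le s L hc₀)
    have hf' : Fixes V b' := by
      by_contra hf
      exact hb'E (hcent b' hb' (hb'o.symm ▸ hbS) (hb'o.symm ▸ hbq) hf)
    have hf₀ : Fixes V c₀ := by
      by_contra hf
      exact hCs c₀ hc₀K hc₀o (hcent c₀ hc₀K (hc₀o.symm ▸ hcS) (hc₀o.symm ▸ hcq) hf)
    exact h.edge_fixed_false hq hEK hE.1 hEp (fun e0 => hnc (by subst E; infer_instance)) hEn hb'
      (hb'o.symm ▸ hbS) (hb'o.symm ▸ hbq) hc₀K (hc₀o.symm ▸ hcS) (hc₀o.symm ▸ hcq)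
      (by rw [hb'o, hc₀o]; exact hne) hcomm hf' hf₀

/-- Every elementary abelian normal subgroup is cyclic. -/
theorem isCyclic_of_normal {q : ℕ} (hq : q ∈ S) {E : Subgroup G} (hEK : E ≤ K)
    (hE : Cfsg.IsElementaryAbelian q E) (hEn : K ≤ normalizer (E : Set G)) : IsCyclic E := by
  by_contra hnc
  haveI := Fact.mk (h.prime q hq).1
  have hEp := isPGroup_of_elementary hE
  obtain ⟨r, hr, s, hs, hqr, hrs, hqs⟩ := h.exists_others hq
  obtain ⟨b, hb, c, hc, hbo, hco, hbc⟩ := h.edge r hr s hs hrs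
  have hbS : orderOf b ∈ S := hbo.symm ▸ hr
  have hcS : orderOf c ∈ S := hco.symm ▸ hs
  have hbq : orderOf b ≠ q := hbo.symm ▸ hqr.symm
  have hcq : orderOf c ≠ q := hco.symm ▸ hqs.symm
  have hne : orderOf b ≠ orderOf c := by rw [hbo, hco]; exact hrs
  by_cases hfb : Fixes V b
  · by_cases hfc : Fixes V c
    · exact h.edge_fixed_false hq hEK hE.1 hEp (fun e0 => hnc (by subst E; infer_instance)) hEn hb
        hbS hbq hc hcS hcq hne hbc hfb hfc
    · exact h.noncyclic_aux hq hEK hE hnc hEn hc hcS hcq hb hbS hbq hne.symm hbc.symm hfc hfb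
  · by_cases hfc : Fixes V c
    · exact h.noncyclic_aux hq hEK hE hnc hEn hb hbS hbq hc hcS hcq hne hbc hfb hfc
    · obtain ⟨a, ha, ha1, hfa⟩ := exists_fixes_of_noncyclic hE hnc (hEK.trans h.norm) h.ne
        (h.not_dvd_card hq)
      have hao := orderOf_of_isElementaryAbelian hE ha ha1
      exact h.one_prime (hEK ha) (hao.symm ▸ hq) hfa hb hbS (hao.symm ▸ hbq)
        (h.commute_of_fpf hq hEK hE.1 hEp hb hbS hbq hfb (hEn hb) ha).symm hc hcS
        (hao.symm ▸ hcq) (h.commute_of_fpf hq hEK hE.1 hEp hc hcS hcq hfc (hEn hc) ha).symm hne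

end CfsgLib.Solvable.ThreePrimeOrders.Setting
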