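import Cfsg.Agent.Lib.Solvable.ThreePrimeOrders.Tools

/-!
# A solvable group of three primes acting on a module with fixed-point-free pairs
-/

set_option autoImplicit false
set_option linter.style.haveILetI false

namespace CfsgLib.Solvable.ThreePrimeOrders

open Subgroup
open scoped commutatorElement

variable {G : Type*} [Group G] [Finite G]

/-- A group of three primes in which every two primes occur together in an element order, the
three do not, and which acts faithfully on `V` so that commuting elements of two of the primes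
fix nothing in common. -/
structure Setting (p : ℕ) (V K : Subgroup G) (S : Finset ℕ) : Prop where
  hp : p.Prime
  elem : Cfsg.IsElementaryAbelian p V
  ne : V ≠ ⊥
  norm : K ≤ normalizer (V : Set G)
  faithful : ∀ x ∈ K, (∀ v ∈ V, Commute x v) → x = 1
  solv : Group.IsSolvable G
  prime : ∀ t ∈ S, t.Prime ∧ t ≠ p
  card_eq : S.card = 3
  supp : ∀ t : ℕ, t.Prime → t ∣ Nat.card K → t ∈ S
  free : ∀ x ∈ K, ∀ y ∈ K, orderOf x ∈ S → orderOf y ∈ S → orderOf x ≠ orderOf y → Commute x y →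
    ∀ v ∈ V, Commute x v → Commute y v → v = 1
  edge : ∀ t ∈ S, ∀ u ∈ S, t ≠ u → ∃ x ∈ K, ∃ y ∈ K, orderOf x = t ∧ orderOf y = u ∧ Commute x y
  no3 : ∀ x ∈ K, ∀ y ∈ K, ∀ z ∈ K, orderOf x ∈ S → orderOf y ∈ S → orderOf z ∈ S →
    orderOf x ≠ orderOf y → orderOf y ≠ orderOf z → orderOf x ≠ orderOf z →
    Commute x y → Commute y z → Commute x z → False
  big : ∀ c ∈ K, orderOf c ∈ S → ∃ d ∈ K, orderOf d = orderOf c ∧ Commute c d ∧ d ∉ zpowers c

namespace Setting

variable {p : ℕ} {V K : Subgroup G} {S : Finset ℕ} (h : Setting p V K S)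
include h

omit [Finite G] in
theorem mem_cases {q r s : ℕ} (hq : q ∈ S) (hr : r ∈ S) (hs : s ∈ S) (hqr : q ≠ r) (hrs : r ≠ s)
    (hqs : q ≠ s) {t : ℕ} (ht : t ∈ S) : t = q ∨ t = r ∨ t = s := by
  by_contra hne
  push Not at hne
  have hsub : ({t, q, r, s} : Finset ℕ) ⊆ S := by
    intro a ha
    simp only [Finset.mem_insert, Finset.mem_singleton] at ha
    rcases ha with rfl | rfl | rfl | rfl <;> assumption
  have := Finset.card_le_card hsub
  rw [h.card_eq, Finset.card_insert_of_notMem (by simp [hne.1, hne.2.1, hne.2.2]),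
    Finset.card_insert_of_notMem (by simp [hqr, hqs]),
    Finset.card_insert_of_notMem (by simp [hrs]), Finset.card_singleton] at this
  omega

omit [Finite G] in
theorem exists_others {q : ℕ} (hq : q ∈ S) :
    ∃ r ∈ S, ∃ s ∈ S, q ≠ r ∧ r ≠ s ∧ q ≠ s := by
  have h1 : (S.erase q).card = 2 := by rw [Finset.card_erase_of_mem hq, h.card_eq]
  obtain ⟨r, s, hrs, he⟩ := Finset.card_eq_two.1 h1
  have hr : r ∈ S.erase q := by simp [he]
  have hs : s ∈ S.erase q := by simp [he]
  exact ⟨r, Finset.mem_of_mem_erase hr, s, Finset.mem_of_mem_erase hs,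
    (Finset.ne_of_mem_erase hr).symm, hrs, (Finset.ne_of_mem_erase hs).symm⟩

theorem not_dvd_card {t : ℕ} (ht : t ∈ S) : ¬ t ∣ Nat.card V := fun hd => by
  haveI := Fact.mk h.hp
  obtain ⟨n, hn⟩ := (isPGroup_of_elementary h.elem).exists_card_eq
  exact (h.prime t ht).2 ((Nat.prime_dvd_prime_iff_eq (h.prime t ht).1 h.hp).1
    ((h.prime t ht).1.dvd_of_dvd_pow (hn ▸ hd)))

theorem coprime_card {E : Subgroup G} {t : ℕ} (ht : t ∈ S) (hE : IsPGroup t E) :
    (Nat.card E).Coprime (Nat.card V) := by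
  haveI := Fact.mk (h.prime t ht).1
  obtain ⟨n, hn⟩ := hE.exists_card_eq
  rw [hn]
  exact ((h.prime t ht).1.coprime_iff_not_dvd.2 (h.not_dvd_card ht)).pow_left n

omit [Finite G] in
theorem eq_one_of_mem_centralizer {x : G} (hx : x ∈ K) (hc : x ∈ centralizer (V : Set G)) : x = 1 :=
  h.faithful x hx fun v hv => (mem_centralizer_iff.1 hc v hv).symm

theorem pair_le {x y : G} (hx : x ∈ K) (hy : y ∈ K) {A : Subgroup G}
    (hA : A ≤ closure ({x, y} : Set G)) : A ≤ K :=
  hA.trans ((closure_le _).2 (by rintro z (rfl | rfl) <;> assumption))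

/-- An element with fixed points commutes with elements of at most one other prime order, and not
with two independent ones. -/
theorem one_rank {x y z : G} (hx : x ∈ K) (hxS : orderOf x ∈ S) (hfx : Fixes V x) (hy : y ∈ K)
    (hyS : orderOf y ∈ S) (hyx : orderOf y ≠ orderOf x) (hxy : Commute x y) (hz : z ∈ K)
    (hzy : orderOf z = orderOf y) (hxz : Commute x z) (hyz : Commute y z) (hnz : z ∉ zpowers y) :
    False := by
  haveI := Fact.mk (h.prime _ hyS).1
  obtain ⟨A, hA, hAnc, -, -, hAle⟩ := pair_elementary rfl hzy hyz hnz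
  have hAK := h.pair_le hy hz hAle
  have hAx : A ≤ centralizer ({x} : Set G) := hAle.trans ((closure_le _).2 (by
    rintro w (rfl | rfl)
    · exact mem_centralizer_singleton_iff.2 hxy.eq.symm
    · exact mem_centralizer_singleton_iff.2 hxz.eq.symm))
  set W := V ⊓ centralizer ({x} : Set G) with hW
  have hW0 : W ≠ ⊥ := fun e => not_fixes_iff.2 e hfx
  have hAW : A ≤ normalizer (W : Set G) := fun a ha => mem_normalizer_fintype fun v hv =>
    ⟨(mem_normalizer_iff.1 (h.norm (hAK ha)) v).1 hv.1, by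
      have := mul_mem (mul_mem (hAx ha) hv.2) (inv_mem (hAx ha))
      exact this⟩
  obtain ⟨a, ha, ha1, v, hv, hv1, hav⟩ := exists_fixes_of_noncyclic hA hAnc hAW hW0
    fun hd => h.not_dvd_card hyS (hd.trans (card_dvd_of_le inf_le_left))
  have hao := orderOf_of_isElementaryAbelian hA ha ha1
  exact hv1 (h.free x hx a (hAK ha) hxS (hao.symm ▸ hyS) (hao.symm ▸ hyx.symm)
    (mem_centralizer_singleton_iff.1 (hAx ha)).symm v hv.1
    (mem_centralizer_singleton_iff.1 hv.2).symm hav)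

theorem one_prime {x y z : G} (hx : x ∈ K) (hxS : orderOf x ∈ S) (hfx : Fixes V x) (hy : y ∈ K)
    (hyS : orderOf y ∈ S) (hyx : orderOf y ≠ orderOf x) (hxy : Commute x y) (hz : z ∈ K)
    (hzS : orderOf z ∈ S) (hzx : orderOf z ≠ orderOf x) (hxz : Commute x z)
    (hyz : orderOf y ≠ orderOf z) : False := by
  haveI := Fact.mk h.hp
  haveI := Fact.mk (h.prime _ hyS).1
  haveI := Fact.mk (h.prime _ hzS).1
  haveI := h.solv
  set W := V ⊓ centralizer ({x} : Set G) with hW
  set Y := K ⊓ centralizer ({x} : Set G) with hY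
  have hyY : y ∈ Y := ⟨hy, mem_centralizer_singleton_iff.2 hxy.eq.symm⟩
  have hzY : z ∈ Y := ⟨hz, mem_centralizer_singleton_iff.2 hxz.eq.symm⟩
  have hYW : Y ≤ normalizer (W : Set G) := fun a ha => mem_normalizer_fintype fun v hv =>
    ⟨(mem_normalizer_iff.1 (h.norm ha.1) v).1 hv.1, by
      exact (centralizer ({x} : Set G)).mul_mem
        ((centralizer ({x} : Set G)).mul_mem ha.2 hv.2) ((centralizer ({x} : Set G)).inv_mem ha.2)⟩
  have hWel : Cfsg.IsElementaryAbelian p W := by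
    haveI := h.elem.1
    exact ⟨⟨⟨fun a b => Subtype.ext
      (congrArg Subtype.val (h.elem.1.1.1 ⟨a, a.2.1⟩ ⟨b, b.2.1⟩) :)⟩⟩, fun a ha => h.elem.2 a ha.1⟩
  obtain ⟨a, ha, b, hb, hao, hbo, hab⟩ := exists_edge_of_two (u := orderOf y) (w := orderOf z)
    (h.prime _ hyS).2 (h.prime _ hzS).2 hyz hWel (fun e => not_fixes_iff.2 e hfx) hYW
    (Subgroup.orderOf_dvd_natCard Y hyY) (Subgroup.orderOf_dvd_natCard Y hzY)
    (fun w hw hwo ⟨v, hv, hv1, hwv⟩ => hv1 (h.free x hx w hw.1 hxS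
      (by rcases hwo with e | e <;> rw [e] <;> assumption)
      (by rcases hwo with e | e <;> rw [e] <;> [exact hyx.symm; exact hzx.symm])
      (mem_centralizer_singleton_iff.1 hw.2).symm v hv.1
      (mem_centralizer_singleton_iff.1 hv.2).symm hwv))
  exact h.no3 x hx a ha.1 b hb.1 hxS (hao.symm ▸ hyS) (hbo.symm ▸ hzS) (hao.symm ▸ hyx.symm)
    (by rwa [hao, hbo]) (hbo.symm ▸ hzx.symm) (mem_centralizer_singleton_iff.1 ha.2).symm hab
    (mem_centralizer_singleton_iff.1 hb.2).symm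

/-- There is no central element of prime order. -/
theorem not_central {z : G} (hz : z ∈ K) (hzS : orderOf z ∈ S) (hc : ∀ g ∈ K, Commute z g) :
    False := by
  obtain ⟨r, hr, s, hs, hzr, hrs, hzs⟩ := h.exists_others hzS
  obtain ⟨b, hb, c, hc', hbo, hco, hbc⟩ := h.edge r hr s hs hrs
  exact h.no3 z hz b hb c hc' hzS (hbo.symm ▸ hr) (hco.symm ▸ hs) (hbo.symm ▸ hzr)
    (by rwa [hbo, hco]) (hco.symm ▸ hzs) (hc b hb) hbc (hc c hc')

/-- Fixed-point-free elements centralise normalised abelian groups of other primes. -/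
theorem commute_of_fpf {E : Subgroup G} {t : ℕ} (ht : t ∈ S) (hEK : E ≤ K)
    (hEc : IsMulCommutative E) (hE : IsPGroup t E) {y : G} (hy : y ∈ K) (hyS : orderOf y ∈ S)
    (hyt : orderOf y ≠ t) (hf : ¬ Fixes V y) (hyE : y ∈ normalizer (E : Set G)) {e : G}
    (he : e ∈ E) : Commute y e := by
  haveI := Fact.mk (h.prime _ hyS).1
  haveI := Fact.mk (h.prime t ht).1
  obtain ⟨n, hn⟩ := hE.exists_card_eq
  have hm := comm_mem_of_abelian h.elem.1 hEc (h.coprime_card ht hE) (hEK.trans h.norm) rfl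
    (fun hd => hyt ((Nat.prime_dvd_prime_iff_eq (h.prime _ hyS).1 (h.prime t ht).1).1
      ((h.prime _ hyS).1.dvd_of_dvd_pow (hn ▸ hd)))) (h.norm hy) hyE hf he
  have h1 := h.eq_one_of_mem_centralizer (mul_mem (inv_mem (hEK he))
    (mul_mem (mul_mem hy (hEK he)) (inv_mem hy))) hm
  rw [inv_mul_eq_one, eq_comm, mul_inv_eq_iff_eq_mul] at h1
  exact h1

/-- Fixed-point-free elements centralise normalised groups of other odd primes. -/
theorem commute_of_fpf_odd {Q : Subgroup G} {t : ℕ} (ht : t ∈ S) (ht2 : t ≠ 2) (hQK : Q ≤ K)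
    (hQ : IsPGroup t Q) {y : G} (hy : y ∈ K) (hyS : orderOf y ∈ S) (hyt : orderOf y ≠ t)
    (hf : ¬ Fixes V y) (hyQ : y ∈ normalizer (Q : Set G)) {g : G} (hg : g ∈ Q) : Commute y g := by
  haveI := Fact.mk h.hp
  haveI := Fact.mk (h.prime _ hyS).1
  haveI := Fact.mk (h.prime t ht).1
  have hm := comm_mem_of_odd h.elem hQ ht2 (h.prime t ht).2.symm (h.prime _ hyS).2.symm hyt.symm rfl
    (hQK.trans h.norm) (h.norm hy) hyQ hf hg
  have h1 := h.eq_one_of_mem_centralizer (mul_mem (inv_mem (hQK hg))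
    (mul_mem (mul_mem hy (hQK hg)) (inv_mem hy))) hm
  rw [inv_mul_eq_one, eq_comm, mul_inv_eq_iff_eq_mul] at h1
  exact h1

/-- A commuting pair with fixed points cannot normalise a non-trivial abelian group of the third
prime. -/
theorem edge_fixed_false {E : Subgroup G} {q : ℕ} (hq : q ∈ S) (hEK : E ≤ K)
    (hEc : IsMulCommutative E) (hE : IsPGroup q E) (hE0 : E ≠ ⊥)
    (hEn : K ≤ normalizer (E : Set G)) {b c : G} (hb : b ∈ K) (hbS : orderOf b ∈ S)
    (hbq : orderOf b ≠ q) (hc : c ∈ K) (hcS : orderOf c ∈ S) (hcq : orderOf c ≠ q)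
    (hne : orderOf b ≠ orderOf c) (hbc : Commute b c) (hfb : Fixes V b) (hfc : Fixes V c) :
    False := by
  haveI := Fact.mk (h.prime q hq).1
  have hno : ∀ x y : G, x ∈ K → orderOf x ∈ S → Fixes V x → y ∈ K → orderOf y ∈ S →
      orderOf y ≠ orderOf x → orderOf x ≠ q → orderOf y ≠ q → Commute x y →
      ∀ e ∈ E, Commute x e → e = 1 := by
    intro x y hx hxS hfx hy hyS hyx hxq hyq hxy e he hxe
    by_contra he1
    obtain ⟨m, hm⟩ := exists_orderOf_pow (orderOf_dvd_of_isPGroup hE he he1)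
      (isOfFinOrder_of_finite e)
    exact h.one_prime hx hxS hfx hy hyS hyx hxy (pow_mem (hEK he) m) (hm.symm ▸ hq)
      (hm.symm ▸ hxq.symm) (hxe.pow_right m) (hm.symm ▸ hyq)
  have hcop : (orderOf b).Coprime (orderOf c) :=
    (Nat.coprime_primes (h.prime _ hbS).1 (h.prime _ hcS).1).2 hne
  have hord : orderOf (b * c) = orderOf b * orderOf c := hbc.orderOf_mul_eq_mul_orderOf_of_coprime hcop
  -- powers of the product recover the factors
  have hrec : ∀ x y : G, Commute x y → (orderOf x).Prime → (orderOf x).Coprime (orderOf y) →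
      ∀ i, ¬ orderOf x ∣ i → ∃ j : ℕ, ((x * y) ^ i) ^ j = x := by
    intro x y hxy hxp hxc i hi
    obtain ⟨m, hm⟩ := exists_pow_eq_self_of_coprime (x := x) (n := i * orderOf y)
      (Nat.Coprime.mul_left ((hxp.coprime_iff_not_dvd.2 hi).symm) hxc.symm)
    refine ⟨orderOf y * m, ?_⟩
    rw [← pow_mul, ← mul_assoc, pow_mul, hxy.mul_pow, mul_comm i (orderOf y),
      pow_mul y, pow_orderOf_eq_one, one_pow, mul_one, mul_comm (orderOf y) i, hm]
  have hfix : ∀ i, ¬ orderOf (b * c) ∣ i → ∀ e ∈ E, Commute ((b * c) ^ i) e → e = 1 := by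
    intro i hi e he hce
    rw [hord] at hi
    by_cases hbi : orderOf b ∣ i
    · have hci : ¬ orderOf c ∣ i := fun hci => hi (hcop.mul_dvd_of_dvd_of_dvd hbi hci)
      obtain ⟨j, hj⟩ := hrec c b hbc.symm (h.prime _ hcS).1 hcop.symm i hci
      rw [← hbc.eq] at hj
      exact hno c b hc hcS hfc hb hbS hne hcq hbq hbc.symm e he (hj ▸ hce.pow_left j)
    · obtain ⟨j, hj⟩ := hrec b c hbc (h.prime _ hbS).1 hcop i hbi
      exact hno b c hb hbS hfb hc hcS hne.symm hbq hcq hbc e he (hj ▸ hce.pow_left j)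
  have hnf : ¬ Fixes V (b * c) := by
    rintro ⟨v, hv, hv1, hcv⟩
    obtain ⟨j, hj⟩ := hrec b c hbc (h.prime _ hbS).1 hcop 1 (Nat.Prime.not_dvd_one (h.prime _ hbS).1)
    rw [pow_one] at hj
    obtain ⟨k, hk⟩ := hrec c b hbc.symm (h.prime _ hcS).1 hcop.symm 1
      (Nat.Prime.not_dvd_one (h.prime _ hcS).1)
    rw [pow_one, ← hbc.eq] at hk
    exact hv1 (h.free b hb c hc hbS hcS hne hbc v hv (hj ▸ hcv.pow_left j) (hk ▸ hcv.pow_left k))
  have hle := le_centralizer_of_frobenius h.elem.1 hEc (h.coprime_card hq hE) (hEK.trans h.norm)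
    (h.norm (mul_mem hb hc)) (hEn (mul_mem hb hc)) hfix hnf
  exact hE0 ((eq_bot_iff_forall _).2 fun e he =>
    h.eq_one_of_mem_centralizer (hEK he) (hle he))

end Setting

end CfsgLib.Solvable.ThreePrimeOrders
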