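import Cfsg.Agent.Lib.Solvable.ThreePrimeOrders.Basic

/-!
# Tools: cores, edges in fixed-point-free groups, normal subgroups of prime order
-/

set_option autoImplicit false
set_option linter.style.haveILetI false

namespace CfsgLib.Solvable.ThreePrimeOrders

open Subgroup
open scoped commutatorElement

variable {G : Type*} [Group G] [Finite G]

/-- `O_t(K)` as a subgroup of the ambient group. -/
def core (t : ℕ) (K : Subgroup G) : Subgroup G := (Cfsg.pCore t K).map K.subtype

omit [Finite G] in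
theorem core_le (t : ℕ) (K : Subgroup G) : core t K ≤ K := map_subtype_le _

omit [Finite G] in
theorem mem_core {t : ℕ} {K : Subgroup G} {x : G} (hx : x ∈ K) :
    x ∈ core t K ↔ (⟨x, hx⟩ : K) ∈ Cfsg.pCore t K := by
  refine ⟨?_, fun h => ⟨_, h, rfl⟩⟩
  rintro ⟨y, hy, e⟩
  rwa [show (⟨x, hx⟩ : K) = y from Subtype.ext e.symm]

theorem isPGroup_core (t : ℕ) [Fact t.Prime] (K : Subgroup G) : IsPGroup t (core t K) :=
  (CfsgLib.Solvable.Cores.isPGroup_pCore t).map _

theorem conj_mem_core {t : ℕ} {K : Subgroup G} {g x : G} (hg : g ∈ K) (hx : x ∈ core t K) :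
    g * x * g⁻¹ ∈ core t K := by
  haveI : (Cfsg.pCore t K).Normal := CfsgLib.Solvable.Cores.pCore_normal t
  obtain ⟨y, hy, rfl⟩ := hx
  exact ⟨⟨g, hg⟩ * y * ⟨g, hg⟩⁻¹, Normal.conj_mem ‹_› y hy _, rfl⟩

theorem le_normalizer_core (t : ℕ) (K : Subgroup G) : K ≤ normalizer (core t K : Set G) :=
  fun g hg => mem_normalizer_fintype fun x hx => conj_mem_core hg hx

theorem dvd_card_of_core_ne_bot {t : ℕ} [Fact t.Prime] {K : Subgroup G} (h : core t K ≠ ⊥) :
    t ∣ Nat.card (core t K) := by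
  obtain ⟨n, hn⟩ := (isPGroup_core t K).exists_card_eq
  rw [hn]
  refine dvd_pow_self t fun e => h (card_eq_one.1 ?_)
  rw [hn, e, pow_zero]

/-- Elements of prime order of the Fitting subgroup lie in the core. -/
theorem mem_pCore_of_mem_fitting {X : Type*} [Group X] [Finite X] {x : X} {s : ℕ} [Fact s.Prime]
    (hx : x ∈ Cfsg.fittingSubgroup X) (hxo : orderOf x = s) : x ∈ Cfsg.pCore s X := by
  haveI := CfsgLib.Solvable.Cores.fittingSubgroup_isNilpotent (G := X)
  have hp : IsPGroup s (zpowers (⟨x, hx⟩ : Cfsg.fittingSubgroup X)) :=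
    IsPGroup.of_card (n := 1) (by rw [Nat.card_zpowers, Subgroup.orderOf_mk, hxo, pow_one])
  obtain ⟨P, hP⟩ := hp.exists_le_sylow
  have hall : ∀ (q : ℕ) (_ : Fact q.Prime) (Q : Sylow q (Cfsg.fittingSubgroup X)),
      (Q : Subgroup (Cfsg.fittingSubgroup X)).Normal :=
    ((Group.isNilpotent_of_finite_tfae (G := Cfsg.fittingSubgroup X)).out 0 3).mp
      CfsgLib.Solvable.Cores.fittingSubgroup_isNilpotent
  haveI hPn : (P : Subgroup (Cfsg.fittingSubgroup X)).Normal := hall s inferInstance P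
  haveI := P.characteristic_of_normal hPn
  haveI : (Cfsg.fittingSubgroup X).Normal := CfsgLib.Solvable.Cores.fittingSubgroup_normal
  haveI : ((P : Subgroup (Cfsg.fittingSubgroup X)).map (Cfsg.fittingSubgroup X).subtype).Normal :=
    inferInstance
  exact CfsgLib.Solvable.Cores.le_pCore
    (N := (P : Subgroup (Cfsg.fittingSubgroup X)).map (Cfsg.fittingSubgroup X).subtype)
    (P.isPGroup'.map _) ⟨_, hP (mem_zpowers _), rfl⟩

/-- An element of prime order centralising all cores lies in its core. -/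
theorem mem_core_of_commute [Group.IsSolvable G] {K : Subgroup G} {x : G} {s : ℕ} [Fact s.Prime]
    (hx : x ∈ K) (hxo : orderOf x = s)
    (h : ∀ t : ℕ, t.Prime → ∀ y ∈ core t K, Commute x y) : x ∈ core s K := by
  rw [mem_core hx]
  refine mem_pCore_of_mem_fitting ?_ (by rw [Subgroup.orderOf_mk, hxo])
  apply CfsgLib.Solvable.Cores.centralizer_fittingSubgroup_le
  rw [CfsgLib.Solvable.Cores.fittingSubgroup_eq_iSup_pCore]
  have hle : (⨆ t : Nat.Primes, Cfsg.pCore (t : ℕ) K) ≤ centralizer {(⟨x, hx⟩ : K)} :=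
    iSup_le fun t y hy => mem_centralizer_singleton_iff.2
      (Subtype.ext (h t t.2 y ⟨y, hy, rfl⟩).eq.symm)
  exact mem_centralizer_iff.2 fun y hy => mem_centralizer_singleton_iff.1 (hle hy)

/-- A non-trivial solvable group has a non-trivial core. -/
theorem exists_core_ne_bot [Group.IsSolvable G] {K : Subgroup G} {x : G} {s : ℕ} [Fact s.Prime]
    (hx : x ∈ K) (hxo : orderOf x = s) : ∃ t : ℕ, t.Prime ∧ core t K ≠ ⊥ := by
  by_contra h
  push Not at h
  have := mem_core_of_commute hx hxo fun t ht y hy => by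
    rw [h t ht, mem_bot] at hy
    rw [hy]
    exact Commute.one_right x
  rw [h s Fact.out, mem_bot] at this
  exact ne_one_of_orderOf Fact.out hxo this

omit [Finite G] in
theorem conj_pow_eq {d b : G} {k : ℕ} (h : d * b * d⁻¹ = b ^ k) (n : ℕ) :
    d ^ n * b * (d ^ n)⁻¹ = b ^ k ^ n := by
  induction n with
  | zero => simp
  | succ n ih =>
    calc d ^ (n + 1) * b * (d ^ (n + 1))⁻¹ = d * (d ^ n * b * (d ^ n)⁻¹) * d⁻¹ := by
          rw [pow_succ']; group
      _ = b ^ k ^ (n + 1) := by rw [ih, ← conj_pow, h, ← pow_mul, pow_succ']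

/-- An element of prime order `s` moving a subgroup of prime order `r` that it normalises forces
`s ∣ r - 1`. -/
theorem dvd_sub_one_of_moves {r s : ℕ} [Fact r.Prime] [Fact s.Prime] {b d : G}
    (hb : orderOf b = r) (hd : orderOf d = s) (hmem : d * b * d⁻¹ ∈ zpowers b)
    (hne : ¬ Commute d b) : s ∣ r - 1 := by
  obtain ⟨k, hk⟩ := (mem_powers_iff_mem_zpowers (x := b) (y := d * b * d⁻¹)).2 hmem
  replace hk : d * b * d⁻¹ = b ^ k := hk.symm
  have h1 := conj_pow_eq hk s
  rw [show d ^ s = 1 by rw [← hd, pow_orderOf_eq_one], one_mul, inv_one, mul_one] at h1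
  have h2 : (k : ZMod r) ^ s = 1 := by
    have h3 : 1 ≡ k ^ s [MOD r] := by rw [← hb, ← pow_eq_pow_iff_modEq, pow_one]; exact h1
    have := (ZMod.natCast_eq_natCast_iff 1 (k ^ s) r).2 h3
    push_cast at this
    exact this.symm
  have hk1 : (k : ZMod r) ≠ 1 := fun e => by
    apply hne
    have h3 : k ≡ 1 [MOD r] := (ZMod.natCast_eq_natCast_iff k 1 r).1 (by simpa using e)
    rw [← hb, ← pow_eq_pow_iff_modEq, pow_one, ← hk] at h3
    rw [mul_inv_eq_iff_eq_mul] at h3
    exact h3
  have hk0 : (k : ZMod r) ≠ 0 := fun e => by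
    rw [e, zero_pow (Fact.out : s.Prime).ne_zero] at h2
    exact zero_ne_one h2
  rw [← orderOf_eq_prime h2 hk1]
  exact orderOf_dvd_of_pow_eq_one (ZMod.pow_card_sub_one_eq_one hk0)

omit [Finite G] in
theorem exists_orderOf_pow {e : G} {q : ℕ} [Fact q.Prime] (hq : q ∣ orderOf e) (he : IsOfFinOrder e) :
    ∃ m : ℕ, orderOf (e ^ m) = q :=
  ⟨orderOf e / q, orderOf_pow_orderOf_div he.orderOf_pos.ne' hq⟩

theorem orderOf_dvd_of_isPGroup {E : Subgroup G} {q : ℕ} [Fact q.Prime] (hE : IsPGroup q E) {e : G}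
    (he : e ∈ E) (h1 : e ≠ 1) : q ∣ orderOf e := by
  obtain ⟨k, hk⟩ := IsPGroup.iff_orderOf.1 hE ⟨e, he⟩
  rw [Subgroup.orderOf_mk] at hk
  rw [hk]
  exact dvd_pow_self q fun e0 => h1 (orderOf_eq_one_iff.1 (by rw [hk, e0, pow_zero]))

theorem exists_orderOf_eq_of_ne_bot {E : Subgroup G} {q : ℕ} [Fact q.Prime] (hE : IsPGroup q E)
    (h : E ≠ ⊥) : ∃ e ∈ E, orderOf e = q := by
  obtain ⟨e, he, he1⟩ := E.bot_or_exists_ne_one.resolve_left h
  obtain ⟨m, hm⟩ := exists_orderOf_pow (orderOf_dvd_of_isPGroup hE he he1) (isOfFinOrder_of_finite e)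
  exact ⟨e ^ m, pow_mem he m, hm⟩

/-- Two independent elements of order `q` in a non-cyclic elementary abelian group. -/
theorem exists_pair {E : Subgroup G} {q : ℕ} [Fact q.Prime] (hE : Cfsg.IsElementaryAbelian q E)
    (hnc : ¬ IsCyclic E) :
    ∃ e₁ ∈ E, ∃ e₂ ∈ E, orderOf e₁ = q ∧ orderOf e₂ = q ∧ Commute e₁ e₂ ∧ e₂ ∉ zpowers e₁ := by
  obtain ⟨e₁, h1, h1o⟩ := exists_orderOf_eq_of_ne_bot (isPGroup_of_elementary hE) fun e => hnc (by
    subst e
    infer_instance)
  obtain ⟨e₂, h2, h2n⟩ : ∃ e₂ ∈ E, e₂ ∉ zpowers e₁ := by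
    by_contra hall
    push Not at hall
    exact hnc (isCyclic_of_injective (inclusion (show E ≤ zpowers e₁ from hall))
      (inclusion_injective _))
  exact ⟨e₁, h1, e₂, h2, h1o, orderOf_of_isElementaryAbelian hE h2 fun e => h2n (e ▸ one_mem _),
    congrArg Subtype.val (hE.1.1.1 ⟨e₁, h1⟩ ⟨e₂, h2⟩), h2n⟩

omit [Finite G] in
/-- Elements of the group generated by a commuting pair. -/
theorem exists_zpow_mul_of_mem_closure {x y z : G} (h : Commute x y)
    (hz : z ∈ closure ({x, y} : Set G)) : ∃ i j : ℤ, z = x ^ i * y ^ j := by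
  induction hz using closure_induction with
  | mem a ha =>
    rcases ha with rfl | rfl
    · exact ⟨1, 0, by simp⟩
    · exact ⟨0, 1, by simp⟩
  | one => exact ⟨0, 0, by simp⟩
  | mul a b _ _ iha ihb =>
    obtain ⟨i, j, rfl⟩ := iha
    obtain ⟨k, l, rfl⟩ := ihb
    refine ⟨i + k, j + l, ?_⟩
    rw [zpow_add, zpow_add, mul_assoc (x ^ i), ← mul_assoc (y ^ j), ((h.symm).zpow_zpow j k).eq]
    group
  | inv a _ iha =>
    obtain ⟨i, j, rfl⟩ := iha
    exact ⟨-i, -j, by rw [mul_inv_rev, ← zpow_neg, ← zpow_neg, ((h.symm).zpow_zpow (-j) (-i)).eq]⟩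

theorem mem_normalizer_zpowers {g a : G} (h : g * a * g⁻¹ ∈ zpowers a) :
    g ∈ normalizer (zpowers a : Set G) := by
  refine mem_normalizer_fintype fun x hx => ?_
  obtain ⟨i, rfl⟩ := mem_zpowers_iff.1 hx
  rw [← conj_zpow]
  exact zpow_mem h i

theorem fixes_conj {V : Subgroup G} {g x : G} (hg : g ∈ normalizer (V : Set G)) (h : Fixes V x) :
    Fixes V (g * x * g⁻¹) := by
  obtain ⟨v, hv, hv1, hc⟩ := h
  refine ⟨g * v * g⁻¹, (mem_normalizer_iff.1 hg v).1 hv, fun e => hv1 ?_, ?_⟩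
  · simpa using e
  · show g * x * g⁻¹ * (g * v * g⁻¹) = g * v * g⁻¹ * (g * x * g⁻¹)
    calc g * x * g⁻¹ * (g * v * g⁻¹) = g * (x * v) * g⁻¹ := by group
      _ = g * (v * x) * g⁻¹ := by rw [hc.eq]
      _ = _ := by group

omit [Finite G] in
theorem Fixes.of_zpowers {V : Subgroup G} {x y : G} (h : Fixes V x) (hy : y ∈ zpowers x) :
    Fixes V y := by
  obtain ⟨v, hv, hv1, hc⟩ := h
  obtain ⟨i, rfl⟩ := mem_zpowers_iff.1 hy
  exact ⟨v, hv, hv1, hc.zpow_left i⟩

/-- A solvable group acting on `W` such that the elements of two prime orders act without fixed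
elements has commuting elements of these two orders. -/
theorem exists_edge_of_two [Group.IsSolvable G] {p u w : ℕ} [Fact p.Prime] [Fact u.Prime]
    [Fact w.Prime] (hup : u ≠ p) (hwp : w ≠ p) (huw : u ≠ w) {W Y : Subgroup G}
    (hW : Cfsg.IsElementaryAbelian p W) (hW0 : W ≠ ⊥) (hY : Y ≤ normalizer (W : Set G))
    (hu : u ∣ Nat.card Y) (hw : w ∣ Nat.card Y)
    (hfix : ∀ x ∈ Y, orderOf x = u ∨ orderOf x = w → ¬ Fixes W x) :
    ∃ x ∈ Y, ∃ y ∈ Y, orderOf x = u ∧ orderOf y = w ∧ Commute x y := by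
  obtain ⟨U, hU⟩ := CfsgLib.Coprime.exists_hall ({u, w} : Set ℕ) (G := Y)
    (Group.isSolvable_of_isSolvable_injective Y.subtype_injective)
  obtain ⟨hUY, hUpi, hUidx⟩ := hU
  have hdiv : ∀ t : ℕ, t.Prime → t ∈ ({u, w} : Set ℕ) → t ∣ Nat.card Y → t ∣ Nat.card U := by
    intro t ht htm htY
    rw [← relIndex_bot_left, ← relIndex_mul_relIndex ⊥ U Y bot_le hUY, relIndex_bot_left] at htY
    exact (ht.dvd_mul.1 htY).resolve_right (hUidx t ht htm)
  obtain ⟨x₀, hx₀⟩ := exists_prime_orderOf_dvd_card' (G := U) u (hdiv u Fact.out (Or.inl rfl) hu)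
  have hx₀' : orderOf (x₀ : G) = u := by rw [orderOf_coe, hx₀]
  obtain ⟨t, ht, htne⟩ := exists_core_ne_bot x₀.2 hx₀'
  haveI := Fact.mk ht
  have htm : t = u ∨ t = w := hUpi t ht ((dvd_card_of_core_ne_bot htne).trans
    (card_dvd_of_le (core_le t U)))
  have htp : t ≠ p := by rcases htm with rfl | rfl <;> assumption
  have hW' := isPGroup_of_elementary hW
  obtain ⟨n, hn⟩ := hW'.exists_card_eq
  have hcopW : ∀ k : ℕ, k.Prime → k ≠ p → ¬ k ∣ Nat.card W := fun k hk hkp hd => hkp
    ((Nat.prime_dvd_prime_iff_eq hk Fact.out).1 (hk.dvd_of_dvd_pow (hn ▸ hd)))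
  have hfix' : ∀ x ∈ U, orderOf x = t → ¬ Fixes W x := fun x hx hxo =>
    hfix x (hUY hx) (by rcases htm with rfl | rfl <;> simp [hxo])
  have hone : ∀ x ∈ core t U, ∀ y ∈ core t U, orderOf x = t → orderOf y = t → Commute x y →
      y ∈ zpowers x := by
    intro x hx y hy hxo hyo hc
    by_contra hny
    obtain ⟨A, hA, hAnc, -, -, hAle⟩ := pair_elementary hxo hyo hc hny
    have hAU : A ≤ U := hAle.trans ((closure_le _).2 (by
      rintro z (rfl | rfl)
      · exact core_le t U hx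
      · exact core_le t U hy))
    obtain ⟨a, ha, ha1, hf⟩ := exists_fixes_of_noncyclic hA hAnc
      ((hAU.trans hUY).trans hY) hW0 (hcopW t ht htp)
    exact hfix' a (hAU ha) (orderOf_of_isElementaryAbelian hA ha ha1) hf
  obtain ⟨a, ha, hao⟩ := exists_orderOf_eq_of_ne_bot (isPGroup_core t U) htne
  -- an element of the other order
  obtain ⟨o, ho, hot, hom, hoY⟩ : ∃ o : ℕ, o.Prime ∧ o ≠ t ∧ (o = u ∨ o = w) ∧ o ∣ Nat.card Y := by
    rcases htm with rfl | rfl
    · exact ⟨w, Fact.out, huw.symm, Or.inr rfl, hw⟩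
    · exact ⟨u, Fact.out, huw, Or.inl rfl, hu⟩
  haveI := Fact.mk ho
  obtain ⟨z₀, hz₀⟩ := exists_prime_orderOf_dvd_card' (G := U) o (hdiv o ho hom hoY)
  set z : G := (z₀ : G)
  have hzo : orderOf z = o := by rw [orderOf_coe, hz₀]
  have hfz : ¬ Fixes W z := hfix z (hUY z₀.2) (by rcases hom with rfl | rfl <;> simp [hzo])
  by_cases hc : Commute a z
  · rcases htm with rfl | rfl <;> rcases hom with rfl | rfl
    · exact absurd rfl hot
    · exact ⟨a, hUY (core_le _ _ ha), z, hUY z₀.2, hao, hzo, hc⟩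
    · exact ⟨z, hUY z₀.2, a, hUY (core_le _ _ ha), hzo, hao, hc.symm⟩
    · exact absurd rfl hot
  exfalso
  have hzn : z * a * z⁻¹ ∈ zpowers a := mem_zpowers_of_rankOne (isPGroup_core t U) hone ha
    (conj_mem_core z₀.2 ha) hao (by rw [← MulAut.conj_apply, MulEquiv.orderOf_eq, hao])
  haveI : IsMulCommutative (zpowers a) := inferInstance
  have hle := le_centralizer_of_frobenius hW.1 (inferInstance : IsMulCommutative (zpowers a))
    (by rw [Nat.card_zpowers, hao, ht.coprime_iff_not_dvd]; exact hcopW t ht htp)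
    ((zpowers_le.2 (hY (hUY (core_le _ _ ha))))) (hY (hUY z₀.2)) (mem_normalizer_zpowers hzn)
    (fun i hi e he hce => by
      by_contra he1
      apply hc
      obtain ⟨m, hm⟩ := exists_pow_eq_self_of_coprime (x := z)
        (by rw [hzo]; exact (ho.coprime_iff_not_dvd.2 (hzo ▸ hi)).symm : i.Coprime (orderOf z))
      have hze : Commute z e := hm ▸ hce.pow_left m
      obtain ⟨j, hj⟩ := mem_zpowers_iff.1
        ((zpowers_eq_of_mem ht hao he he1).symm ▸ mem_zpowers a : a ∈ zpowers e)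
      rw [← hj]
      exact (hze.zpow_right j).symm) hfz
  obtain ⟨v, hv, hv1⟩ := W.bot_or_exists_ne_one.resolve_left hW0
  exact hfix' a (core_le _ _ ha) hao
    ⟨v, hv, hv1, (mem_centralizer_iff.1 (hle (mem_zpowers a)) v hv).symm⟩

/-- If all cores are cyclic then an element whose prime order is at least the primes of the
non-trivial cores lies in a core. -/
theorem mem_core_of_cyclic [Group.IsSolvable G] {K : Subgroup G}
    (hcyc : ∀ t : ℕ, t.Prime → IsCyclic (core t K)) {x : G} {u : ℕ} [Fact u.Prime] (hx : x ∈ K)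
    (hxo : orderOf x = u) (hmax : ∀ t : ℕ, t.Prime → core t K ≠ ⊥ → t ≤ u) : x ∈ core u K := by
  by_cases hu : ∀ y ∈ core u K, Commute x y
  · refine mem_core_of_commute hx hxo fun t ht y hy => ?_
    haveI := Fact.mk ht
    by_cases htu : t = u
    · subst htu; exact hu y hy
    by_cases hy1 : y = 1
    · rw [hy1]; exact Commute.one_right x
    have hne : core t K ≠ ⊥ := fun e => hy1 (by rw [e, mem_bot] at hy; exact hy)
    have hlt : t < u := lt_of_le_of_ne (hmax t ht hne) htu
    obtain ⟨a, ha, hao⟩ := exists_orderOf_eq_of_ne_bot (isPGroup_core t K) hne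
    refine commute_of_cyclic htu (isPGroup_core t K) (hcyc t ht) hxo (le_normalizer_core t K hx)
      ha hao ?_ y hy
    by_contra hnc
    have hmem : x * a * x⁻¹ ∈ zpowers a := by
      have hcm : IsMulCommutative (core t K) := by haveI := hcyc t ht; infer_instance
      by_contra hna
      obtain ⟨A, -, hAnc, -, -, hAle⟩ := pair_elementary hao
        (by rw [← MulAut.conj_apply, MulEquiv.orderOf_eq, hao] : orderOf (x * a * x⁻¹) = t)
        (congrArg Subtype.val (hcm.1.1 ⟨a, ha⟩ ⟨_, conj_mem_core hx ha⟩)) hna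
      haveI := hcyc t ht
      have hAD : A ≤ core t K := hAle.trans ((closure_le _).2 (by
        rintro z (rfl | rfl)
        · exact ha
        · exact conj_mem_core hx ha))
      exact hAnc (isCyclic_of_injective (inclusion hAD) (inclusion_injective hAD))
    have := Nat.le_of_dvd (by have := ht.two_le; omega) (dvd_sub_one_of_moves hao hxo hmem hnc)
    omega
  -- the element acts non-trivially on the cyclic `O_u(K)`
  push Not at hu
  haveI hcu := hcyc u Fact.out
  obtain ⟨y₁, hy₁, hy₁c⟩ := hu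
  have hne : core u K ≠ ⊥ := fun e => hy₁c (by
    rw [e, mem_bot] at hy₁; rw [hy₁]; exact Commute.one_right x)
  have hcomm : ∀ g ∈ K, ∀ t : ℕ, t.Prime → ∀ y ∈ core t K, Commute (g * x * g⁻¹ * x⁻¹) y := by
    intro g hg t ht y hy
    haveI := hcyc t ht
    obtain ⟨⟨z, hz⟩, hgen⟩ := (hcyc t ht).exists_generator
    have hz' : ∀ w ∈ core t K, ∃ i : ℤ, z ^ i = w := fun w hw => by
      obtain ⟨i, hi⟩ := mem_zpowers_iff.1 (hgen ⟨w, hw⟩)
      exact ⟨i, by simpa using congrArg Subtype.val hi⟩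
    obtain ⟨i, hi⟩ := hz' _ (conj_mem_core hg hz)
    obtain ⟨j, hj⟩ := hz' _ (conj_mem_core hx hz)
    have h1 : ∀ (a : G) (k : ℤ), a * z * a⁻¹ = z ^ k → a⁻¹ * z ^ k * a = z := fun a k e => by
      rw [← e]; group
    have h2 : g * x * g⁻¹ * x⁻¹ * z * (g * x * g⁻¹ * x⁻¹)⁻¹ = z := by
      have hgx : g * x * z * (g * x)⁻¹ = x * g * z * (x * g)⁻¹ := by
        calc g * x * z * (g * x)⁻¹ = g * (x * z * x⁻¹) * g⁻¹ := by group
          _ = (g * z * g⁻¹) ^ j := by rw [← hj, conj_zpow]
          _ = (z ^ i) ^ j := by rw [hi]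
          _ = (x * z * x⁻¹) ^ i := by rw [← hj, ← zpow_mul, ← zpow_mul, mul_comm]
          _ = x * (g * z * g⁻¹) * x⁻¹ := by rw [← hi, conj_zpow]
          _ = x * g * z * (x * g)⁻¹ := by group
      set w := g⁻¹ * x⁻¹ * z * (x * g) with hw
      have hwc : w ∈ core t K := by
        rw [hw, show g⁻¹ * x⁻¹ * z * (x * g) = g⁻¹ * (x⁻¹ * z * x) * g by group]
        have h3 := conj_mem_core (inv_mem hg) (conj_mem_core (inv_mem hx) hz)
        simpa [mul_assoc] using h3
      obtain ⟨k, hk⟩ := hz' _ hwc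
      have h4 : g * x * z ^ k * (g * x)⁻¹ = x * g * z ^ k * (x * g)⁻¹ := by
        rw [← conj_zpow, ← conj_zpow, hgx]
      rw [hk, hw] at h4
      calc g * x * g⁻¹ * x⁻¹ * z * (g * x * g⁻¹ * x⁻¹)⁻¹
          = g * x * (g⁻¹ * x⁻¹ * z * (x * g)) * (g * x)⁻¹ := by group
        _ = x * g * (g⁻¹ * x⁻¹ * z * (x * g)) * (x * g)⁻¹ := h4
        _ = z := by group
    obtain ⟨k, rfl⟩ := hz' y hy
    exact (show Commute (g * x * g⁻¹ * x⁻¹) z from mul_inv_eq_iff_eq_mul.1 h2).zpow_right k
  -- the normal subgroup generated by the core and `x` is a `u`-group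
  have hxu : IsPGroup u (zpowers x) := IsPGroup.of_card (n := 1) (by rw [Nat.card_zpowers, hxo, pow_one])
  set U := zpowers x ⊔ core u K with hU
  have hUu : IsPGroup u U :=
    hxu.to_sup_of_normal_right' (isPGroup_core u K) (zpowers_le.2 (le_normalizer_core u K hx))
  have hUK : U ≤ K := sup_le (zpowers_le.2 hx) (core_le u K)
  have hconj : ∀ g ∈ K, g * x * g⁻¹ ∈ U := by
    intro g hg
    set d := g * x * g⁻¹ * x⁻¹ with hd
    have hdK : d ∈ K := by
      have := mul_mem (mul_mem (mul_mem hg hx) (inv_mem hg)) (inv_mem hx)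
      exact this
    -- `d` centralises all cores, hence lies in their product
    have hdF : (⟨d, hdK⟩ : K) ∈ ⨆ t : Nat.Primes, Cfsg.pCore (t : ℕ) K := by
      rw [← CfsgLib.Solvable.Cores.fittingSubgroup_eq_iSup_pCore]
      apply CfsgLib.Solvable.Cores.centralizer_fittingSubgroup_le
      rw [CfsgLib.Solvable.Cores.fittingSubgroup_eq_iSup_pCore]
      have hle : (⨆ t : Nat.Primes, Cfsg.pCore (t : ℕ) K) ≤ centralizer {(⟨d, hdK⟩ : K)} :=
        iSup_le fun t y hy => mem_centralizer_singleton_iff.2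
          (Subtype.ext (hcomm g hg t t.2 y ⟨y, hy, rfl⟩).eq.symm)
      exact mem_centralizer_iff.2 fun y hy => mem_centralizer_singleton_iff.1 (hle hy)
    -- split off the part that commutes with `x`
    have hsplit : (⨆ t : Nat.Primes, Cfsg.pCore (t : ℕ) K) ≤
        Cfsg.pCore u K ⊔ (centralizer {(⟨x, hx⟩ : K)} ⊓ Cfsg.fittingSubgroup K) := by
      refine iSup_le fun t => ?_
      by_cases htu : (t : ℕ) = u
      · rw [htu]; exact le_sup_left
      haveI := Fact.mk t.2
      refine le_sup_of_le_right (le_inf ?_ (CfsgLib.Solvable.Cores.pCore_le_fittingSubgroup _))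
      intro y hy
      rw [mem_centralizer_singleton_iff]
      apply Subtype.ext
      haveI := Fact.mk t.2
      by_cases hy1 : (y : G) = 1
      · simp [hy1]
      have hyc : (y : G) ∈ core (t : ℕ) K := ⟨y, hy, rfl⟩
      have hnet : core (t : ℕ) K ≠ ⊥ := fun e => hy1 (by rw [e, mem_bot] at hyc; exact hyc)
      have hlt : (t : ℕ) < u := lt_of_le_of_ne (hmax t t.2 hnet) htu
      obtain ⟨a, ha, hao⟩ := exists_orderOf_eq_of_ne_bot (isPGroup_core (t : ℕ) K) hnet
      refine (commute_of_cyclic htu (isPGroup_core (t : ℕ) K) (hcyc t t.2) hxo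
        (le_normalizer_core t K hx) ha hao ?_ (y : G) hyc).eq.symm
      by_contra hnc
      haveI := hcyc t t.2
      have hmem : x * a * x⁻¹ ∈ zpowers a := by
        by_contra hna
        obtain ⟨A, -, hAnc, -, -, hAle⟩ := pair_elementary hao
          (by rw [← MulAut.conj_apply, MulEquiv.orderOf_eq, hao] : orderOf (x * a * x⁻¹) = (t : ℕ))
          (congrArg Subtype.val ((inferInstance : IsMulCommutative (core (t : ℕ) K)).1.1 ⟨a, ha⟩
            ⟨_, conj_mem_core hx ha⟩)) hna
        have hAD : A ≤ core (t : ℕ) K := hAle.trans ((closure_le _).2 (by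
          rintro z (rfl | rfl)
          · exact ha
          · exact conj_mem_core hx ha))
        exact hAnc (isCyclic_of_injective (inclusion hAD) (inclusion_injective hAD))
      have := Nat.le_of_dvd (by have := t.2.two_le; omega) (dvd_sub_one_of_moves hao hxo hmem hnc)
      omega
    haveI : (Cfsg.pCore u K).Normal := CfsgLib.Solvable.Cores.pCore_normal u
    obtain ⟨du, hdu, dc, hdc, hdd⟩ := mem_sup_of_normal_left.1 (hsplit hdF)
    have hdu' : (du : G) ∈ core u K := ⟨du, hdu, rfl⟩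
    have hm : g * x * g⁻¹ = (du : G) * x * dc := by
      have e1 : (du : G) * (dc : G) = d := congrArg Subtype.val hdd
      have e2 : (dc : G) * x = x * dc :=
        congrArg Subtype.val (mem_centralizer_singleton_iff.1 hdc.1)
      calc g * x * g⁻¹ = d * x := by rw [hd, inv_mul_cancel_right]
        _ = (du : G) * ((dc : G) * x) := by rw [← e1, mul_assoc]
        _ = (du : G) * x * dc := by rw [e2, mul_assoc]
    have hux : (du : G) * x ∈ U := mul_mem (mem_sup_right hdu') (mem_sup_left (mem_zpowers x))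
    -- the commuting part is a `u`-element of the Fitting subgroup
    have hFc : ∀ y : K, y ∈ Cfsg.pCore u K → Commute (dc : G) (y : G) := by
      intro y hy
      have hle : (⨆ t : Nat.Primes, Cfsg.pCore (t : ℕ) K) ≤ centralizer {y} := by
        refine iSup_le fun t z hz => mem_centralizer_singleton_iff.2 ?_
        by_cases htu : (t : ℕ) = u
        · rw [htu] at hz
          exact Subtype.ext (congrArg Subtype.val
            ((inferInstance : IsMulCommutative (core u K)).1.1 ⟨z, z, hz, rfl⟩ ⟨y, y, hy, rfl⟩) :)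
        · haveI : (Cfsg.pCore (t : ℕ) K).Normal := CfsgLib.Solvable.Cores.pCore_normal _
          haveI := Fact.mk t.2
          exact commute_of_normal_of_disjoint _ _ inferInstance inferInstance
            ((CfsgLib.Solvable.Cores.isPGroup_pCore (t : ℕ)).disjoint_of_ne (t : ℕ) u htu _ _
              (CfsgLib.Solvable.Cores.isPGroup_pCore u)) z y hz hy
      have := hle (CfsgLib.Solvable.Cores.fittingSubgroup_eq_iSup_pCore (G := K) ▸ hdc.2)
      exact congrArg Subtype.val (mem_centralizer_singleton_iff.1 this)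
    have hcx : Commute ((du : G) * x) (dc : G) :=
      (hFc du hdu).symm.mul_left
        (congrArg Subtype.val (mem_centralizer_singleton_iff.1 hdc.1)).symm
    obtain ⟨n, hn⟩ := hUu ⟨_, hux⟩
    have hn' : ((du : G) * x) ^ u ^ n = 1 := congrArg Subtype.val hn
    have hmo : (g * x * g⁻¹) ^ u = 1 := by
      rw [conj_pow, ← hxo, pow_orderOf_eq_one, mul_one, mul_inv_cancel]
    have hdcu : ∃ m, (dc : G) ^ u ^ m = 1 := by
      refine ⟨n + 1, ?_⟩
      have h3 : (g * x * g⁻¹) ^ u ^ (n + 1) = 1 := by rw [pow_succ', pow_mul, hmo, one_pow]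
      rwa [hm, hcx.mul_pow, pow_succ, pow_mul ((du : G) * x), hn', one_pow, one_mul] at h3
    obtain ⟨m, hmm⟩ := hdcu
    have hdcc : (dc : G) ∈ core u K := by
      rw [mem_core dc.2]
      haveI := CfsgLib.Solvable.Cores.fittingSubgroup_isNilpotent (G := K)
      have hp : IsPGroup u (zpowers (⟨dc, hdc.2⟩ : Cfsg.fittingSubgroup K)) := by
        obtain ⟨k, -, hk⟩ := (Nat.dvd_prime_pow Fact.out).1 (orderOf_dvd_of_pow_eq_one hmm)
        exact IsPGroup.of_card (n := k) (by
          rw [Nat.card_zpowers, Subgroup.orderOf_mk, ← hk, orderOf_coe])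
      obtain ⟨P, hP⟩ := hp.exists_le_sylow
      have hall : ∀ (q : ℕ) (_ : Fact q.Prime) (Q : Sylow q (Cfsg.fittingSubgroup K)),
          (Q : Subgroup (Cfsg.fittingSubgroup K)).Normal :=
        ((Group.isNilpotent_of_finite_tfae (G := Cfsg.fittingSubgroup K)).out 0 3).mp
          CfsgLib.Solvable.Cores.fittingSubgroup_isNilpotent
      haveI hPn : (P : Subgroup (Cfsg.fittingSubgroup K)).Normal := hall u inferInstance P
      haveI := P.characteristic_of_normal hPn
      haveI : (Cfsg.fittingSubgroup K).Normal := CfsgLib.Solvable.Cores.fittingSubgroup_normal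
      exact CfsgLib.Solvable.Cores.le_pCore
        (N := (P : Subgroup (Cfsg.fittingSubgroup K)).map (Cfsg.fittingSubgroup K).subtype)
        (P.isPGroup'.map _) ⟨_, hP (mem_zpowers _), rfl⟩
    rw [hm]
    exact mul_mem hux (mem_sup_right hdcc)
  have hUn : ∀ g ∈ K, ∀ y ∈ U, g * y * g⁻¹ ∈ U := by
    intro g hg y hy
    rw [hU, sup_eq_closure] at hy
    refine closure_induction (p := fun y _ => g * y * g⁻¹ ∈ U) ?_ ?_ ?_ ?_ hy
    · rintro y (hy | hy)
      · obtain ⟨i, rfl⟩ := mem_zpowers_iff.1 hy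
        rw [← conj_zpow]
        exact zpow_mem (hconj g hg) i
      · exact mem_sup_right (conj_mem_core hg hy)
    · simp
    · intro a b _ _ ia ib
      have : g * (a * b) * g⁻¹ = (g * a * g⁻¹) * (g * b * g⁻¹) := by group
      rw [this]; exact mul_mem ia ib
    · intro a _ ia
      rw [← conj_inv]
      exact inv_mem ia
  haveI : (U.subgroupOf K).Normal := ⟨fun n hn g => hUn g g.2 n hn⟩
  have hle := CfsgLib.Solvable.Cores.le_pCore (p := u) (N := U.subgroupOf K)
    (hUu.comap_of_injective K.subtype K.subtype_injective)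
  exact (mem_core hx).2 (hle (mem_subgroupOf.2 (mem_sup_left (mem_zpowers x))))

end CfsgLib.Solvable.ThreePrimeOrders
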